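import Groth.Agent.Lib.Poincare.PicDescent

/-!
# Invertible modules on disjoint unions
-/

set_option autoImplicit false
set_option linter.all false
set_option backward.isDefEq.respectTransparency false
set_option maxHeartbeats 1000000

universe u

open CategoryTheory CategoryTheory.Limits AlgebraicGeometry Opposite TopologicalSpace
open GrothLib.Ample GrothLib.Cube
open GrothLib.PicDescent

noncomputable section

namespace GrothLib.RigDesc26

theorem eq_of_le_bot {X : Scheme.{u}} {W : X.Opens} (h : W ≤ ⊥) (a b : Γ(X, W)) : a = b :=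
  Ample.eq_of_cover (fun e : PEmpty.{1} => e.elim) (fun e => e.elim) (h.trans bot_le) fun e => e.elim

theorem isUnit_of_res {X : Scheme.{u}} {ι : Type*} {V : X.Opens} (W : ι → X.Opens) (hW : ∀ i, W i ≤ V)
    (hc : V ≤ ⨆ i, W i) (a : Γ(X, V)) (h : ∀ i, IsUnit (res (hW i) a)) : IsUnit a := by
  refine X.toRingedSpace.isUnit_of_isUnit_germ V a fun x hx => ?_
  obtain ⟨i, hi⟩ := Opens.mem_iSup.1 (hc hx)
  have e : X.presheaf.germ (W i) x hi (res (hW i) a) = X.presheaf.germ V x hx a :=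
    X.presheaf.germ_res_apply (homOfLE (hW i)) x hi a
  exact (congrArg IsUnit e).mp ((h i).map _)

variable {κ : Type u} {Z : κ → Scheme.{u}} {X : Scheme.{u}} (j : ∀ i, Z i ⟶ X) [∀ i, IsOpenImmersion (j i)]

theorem bijective_appLE (i : κ) {W : X.Opens} (h : W ≤ (j i).opensRange) :
    Function.Bijective ((j i).appLE W (j i ⁻¹ᵁ W) le_rfl) := by
  haveI := (j i).isIso_app W h
  rw [← Scheme.Hom.app_eq_appLE]
  exact ConcreteCategory.bijective_of_isIso _

variable (hcov : ∀ x : X, ∃ i z, j i z = x) (hdisj : ∀ i i', i ≠ i' → ∀ z z', j i z ≠ j i' z')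

include hdisj in
theorem inf_le_bot {i i' : κ} (h : i ≠ i') {W : X.Opens} (h1 : W ≤ (j i).opensRange) (h2 : W ≤ (j i').opensRange) :
    W ≤ ⊥ := fun x hx => by
  obtain ⟨z, hz⟩ := h1 hx
  obtain ⟨z', hz'⟩ := h2 hx
  exact absurd (hz.trans hz'.symm) (hdisj i i' h z z')

include hcov hdisj in
/-- Classes on the pieces of a disjoint union come from a class on the union. -/
theorem exists_of_disjoint (x : ∀ i, Pic (Z i)) : ∃ n : Pic X, ∀ i, pull (j i) n = x i := by
  classical
  choose c hc using fun i => Quotient.exists_rep (x i)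
  let ι := Σ i, (c i).ι
  let D : ι → X.Opens := fun p => j p.1 ''ᵁ (c p.1).D p.2
  have hD : ∀ p, D p ≤ (j p.1).opensRange := fun p x ⟨z, _, hz⟩ => ⟨z, hz⟩
  have hpre : ∀ (i : κ) (k : (c i).ι) {W : X.Opens}, W ≤ D ⟨i, k⟩ → j i ⁻¹ᵁ W ≤ (c i).D k := fun i k W h =>
    ((j i).preimage_mono h).trans ((j i).preimage_image_eq _).le
  have hg : ∀ p p' : ι, ∃ g : Γ(X, D p ⊓ D p'), ∀ (i : κ) (k k' : (c i).ι) (h : p = ⟨i, k⟩) (h' : p' = ⟨i, k'⟩),
      (j i).appLE (D p ⊓ D p') (j i ⁻¹ᵁ (D p ⊓ D p')) le_rfl g =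
        (c i).G k k' (hpre i k (inf_le_left.trans (le_of_eq (congrArg D h))))
          (hpre i k' (inf_le_right.trans (le_of_eq (congrArg D h')))) := by
    rintro ⟨i, k⟩ ⟨i', k'⟩
    by_cases hi : i = i'
    · subst hi
      obtain ⟨g, hg⟩ := (bijective_appLE j i (inf_le_left.trans (hD ⟨i, k⟩))).2
        ((c i).G k k' (hpre i k inf_le_left) (hpre i k' inf_le_right))
      refine ⟨g, ?_⟩
      intro i₁ k₁ k₁' h h'
      cases h
      cases h'
      exact hg
    · refine ⟨1, ?_⟩
      intro i₁ k₁ k₁' h h'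
      cases h
      cases h'
      exact absurd rfl hi
  choose g hg using hg
  have key : ∀ (i : κ) (k k' : (c i).ι) (W : X.Opens) (hk : W ≤ D ⟨i, k⟩) (hk' : W ≤ D ⟨i, k'⟩),
      (j i).appLE W (j i ⁻¹ᵁ W) le_rfl (res (le_inf hk hk') (g ⟨i, k⟩ ⟨i, k'⟩)) =
        (c i).G k k' (hpre i k hk) (hpre i k' hk') := by
    intro i k k' W hk hk'
    have h := congrArg (res ((j i).preimage_mono (le_inf hk hk' : W ≤ D ⟨i, k⟩ ⊓ D ⟨i, k'⟩))) (hg _ _ i k k' rfl rfl)
    rw [res_appLE', Cocycle.res_G] at h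
    rw [appLE_res']
    exact h
  let C : Cocycle X :=
    { ι := ι
      D := D
      g := g
      cover := eq_top_iff.mpr fun x _ => by
        obtain ⟨i, z, rfl⟩ := hcov x
        obtain ⟨k, hk⟩ := (c i).exists_mem z
        exact Opens.mem_iSup.mpr ⟨⟨i, k⟩, z, hk, rfl⟩
      self := fun p W h => by
        obtain ⟨i, k⟩ := p
        refine (bijective_appLE j i (h.trans (hD ⟨i, k⟩))).1 ?_
        rw [key i k k W h h, map_one, Cocycle.G_self]
      change := fun p q r W hp hq hr => by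
        obtain ⟨i, k⟩ := p
        obtain ⟨i', k'⟩ := q
        obtain ⟨i'', k''⟩ := r
        by_cases h1 : i = i'
        · subst h1
          by_cases h2 : i = i''
          · subst h2
            refine (bijective_appLE j i (hp.trans (hD ⟨i, k⟩))).1 ?_
            rw [map_mul, key i k k'' W hp hr, key i k k' W hp hq, key i k' k'' W hq hr]
            exact (c i).G_trans k k' k'' _ _ _
          · exact eq_of_le_bot (inf_le_bot j hdisj h2 (hp.trans (hD ⟨i, k⟩)) (hr.trans (hD ⟨i'', k''⟩))) _ _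
        · exact eq_of_le_bot (inf_le_bot j hdisj h1 (hp.trans (hD ⟨i, k⟩)) (hq.trans (hD ⟨i', k'⟩))) _ _ }
  refine ⟨cls C, fun i => ?_⟩
  rw [pull_cls, ← hc i]
  refine (Quotient.sound (eqv_of_map (c := c i) (c' := C.comap (j i)) (fun k => (⟨i, k⟩ : ι))
    (fun k => ((j i).preimage_image_eq _).ge) (fun _ => 1) (fun _ => isUnit_one) fun k k' O hk hk' => ?_)).symm
  rw [map_one, map_one, one_mul, mul_one]
  have h := congrArg (res (le_inf (hk.trans ((j i).preimage_image_eq _).ge) (hk'.trans ((j i).preimage_image_eq _).ge) :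
    O ≤ j i ⁻¹ᵁ (D ⟨i, k⟩ ⊓ D ⟨i, k'⟩))) (hg _ _ i k k' rfl rfl)
  refine (comap_G' C (j i) ⟨i, k⟩ ⟨i, k'⟩ _ _).trans ?_
  refine ((res_appLE' (j i) _ _ _).symm.trans h).trans ?_
  exact Cocycle.res_G _ _ _ _ _ _

include hcov hdisj in
/-- A class trivial on all pieces of a disjoint union is trivial. -/
theorem eq_one_of_disjoint {n : Pic X} (h : ∀ i, pull (j i) n = 1) : n = 1 := by
  classical
  obtain ⟨c⟩ := n
  show cls c = 1
  rw [cls_eq_one_iff]
  have ht : ∀ i, Triv (c.comap (j i)) := fun i => cls_eq_one_iff.1 ((pull_cls _ c).symm.trans (h i))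
  choose a ha using ht
  choose b hb using fun (i : κ) (k : c.ι) =>
    (bijective_appLE j i (inf_le_left : (j i).opensRange ⊓ c.D k ≤ _)).2
      (res (le_inf le_top ((j i).preimage_mono inf_le_right)) ((a i).1 k))
  have hglue := fun k => exists_glue (fun i => (j i).opensRange ⊓ c.D k) (O := c.D k) (fun _ => inf_le_right)
    (fun x hx => by obtain ⟨i, z, hz⟩ := hcov x; exact Opens.mem_iSup.2 ⟨i, ⟨z, hz⟩, hx⟩) (fun i => b i k)
    (fun i i' => by
      by_cases hi : i = i'
      · subst hi; rfl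
      · exact eq_of_le_bot (inf_le_bot j hdisj hi (inf_le_left.trans inf_le_left) (inf_le_right.trans inf_le_left)) _ _)
  choose t ht using hglue
  have key : ∀ (i : κ) (k : c.ι) (W : X.Opens) (hW : W ≤ (j i).opensRange) (hk : W ≤ c.D k),
      (j i).appLE W (j i ⁻¹ᵁ W) le_rfl (res hk (t k)) = res (le_inf le_top ((j i).preimage_mono hk)) ((a i).1 k) := by
    intro i k W hW hk
    have h1 := congrArg (res ((j i).preimage_mono (le_inf hW hk : W ≤ (j i).opensRange ⊓ c.D k))) (hb i k)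
    rw [← ht k i, res_res, appLE_res', res_appLE'] at h1
    rw [appLE_res']
    exact h1
  let A : ∀ k, Γ(X, ⊤ ⊓ c.D k) := fun k => res inf_le_right (t k)
  have hmem : A ∈ c.sect 1 ⊤ := fun k k' W hk hk' => by
    refine Ample.eq_of_cover (fun i => (j i).opensRange ⊓ W) (fun _ => inf_le_right)
      (fun x hx => by obtain ⟨i, z, hz⟩ := hcov x; exact Opens.mem_iSup.2 ⟨i, ⟨z, hz⟩, hx⟩) fun i => ?_
    refine (bijective_appLE j i inf_le_left).1 ?_
    simp only [A, map_mul, map_pow, pow_one, res_res, Cocycle.res_G]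
    rw [key i k _ inf_le_left (inf_le_right.trans (hk.trans inf_le_right)),
      key i k' _ inf_le_left (inf_le_right.trans (hk'.trans inf_le_right))]
    have e := (c.comap (j i)).sect_spec (a i) k k' (W := j i ⁻¹ᵁ ((j i).opensRange ⊓ W))
      (le_inf le_top ((j i).preimage_mono (inf_le_right.trans (hk.trans inf_le_right))))
      (le_inf le_top ((j i).preimage_mono (inf_le_right.trans (hk'.trans inf_le_right))))
    rw [pow_one] at e
    refine e.trans (congrArg (· * _) ?_)
    exact (appLE_G' c (j i) k k' _ _ le_rfl).symm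
  refine ⟨⟨A, hmem⟩, c.locus_eq_top_of_isUnit _ fun k => ?_⟩
  refine IsUnit.map _ (isUnit_of_res (fun i => (j i).opensRange ⊓ c.D k) (fun _ => inf_le_right)
    (fun x hx => by obtain ⟨i, z, hz⟩ := hcov x; exact Opens.mem_iSup.2 ⟨i, ⟨z, hz⟩, hx⟩) _ fun i => ?_)
  rw [ht k i]
  let E : Γ(X, (j i).opensRange ⊓ c.D k) ≃+* Γ(Z i, j i ⁻¹ᵁ ((j i).opensRange ⊓ c.D k)) :=
    RingEquiv.ofBijective ((j i).appLE _ _ le_rfl).hom (bijective_appLE j i inf_le_left)
  have h1 : IsUnit (E (b i k)) := by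
    refine (congrArg IsUnit (hb i k)).mpr ?_
    have h2 := (isUnit_component (ha i) k (le_refl ((c.comap (j i)).D k))).map
      (res ((j i).preimage_mono (inf_le_right : (j i).opensRange ⊓ c.D k ≤ c.D k)))
    exact (congrArg IsUnit (res_res _ _ _)).mp h2
  have h3 : IsUnit (E.symm (E (b i k))) := h1.map E.symm
  rwa [E.symm_apply_apply] at h3

end GrothLib.RigDesc26
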