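import Groth.Agent.Lib.RigDesc26.Trans
import Groth.Agent.Lib.FppfPic26.Main

/-!
# Descent of rigidified classes along flat coverings of the base
-/

set_option autoImplicit false
set_option linter.all false
set_option backward.isDefEq.respectTransparency false
set_option maxHeartbeats 1000000
set_option synthInstance.maxHeartbeats 200000

universe u

open CategoryTheory CategoryTheory.Limits AlgebraicGeometry Opposite TopologicalSpace
open GrothLib.Ample GrothLib.Cube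
open GrothLib.PicDescent

noncomputable section

namespace GrothLib.RigDesc26

/-- Sections over an open as global sections of the open subscheme. -/
theorem bijective_ι_appLE {X : Scheme.{u}} (O : X.Opens) (e : (⊤ : O.toScheme.Opens) ≤ O.ι ⁻¹ᵁ O) :
    Function.Bijective (O.ι.appLE O ⊤ e) := by
  haveI : IsIso (O.ι.appLE O ⊤ e) := by
    rw [Scheme.Opens.ι_appLE]
    refine @Functor.map_isIso _ _ _ _ _ _ _ _ ?_
    exact ⟨(homOfLE (by rw [Scheme.Opens.ι_image_top])).op, Subsingleton.elim _ _, Subsingleton.elim _ _⟩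
  exact ConcreteCategory.bijective_of_isIso _

/-- Pullback along a flat surjection is injective on global functions. -/
theorem injective_appLE {Y Z : Scheme.{u}} (q : Y ⟶ Z) [Flat q] [LocallyOfFinitePresentation q] [Surjective q] :
    Function.Injective (q.appLE ⊤ ⊤ le_top) := by
  have h := (GrpdQuot.sections_of_local_section q q (𝟙 Y) (Category.id_comp q) ⊤).1
  rwa [Scheme.Hom.app_eq_appLE] at h

/-- Functions equal after pullback along a flat surjection onto an open are equal. -/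
theorem eq_of_appLE {Y Z : Scheme.{u}} {W : Z.Opens} (q : Y ⟶ W.toScheme) [Flat q] [LocallyOfFinitePresentation q]
    [Surjective q] (e : (⊤ : Y.Opens) ≤ (q ≫ W.ι) ⁻¹ᵁ W) {s t : Γ(Z, W)}
    (h : (q ≫ W.ι).appLE W ⊤ e s = (q ≫ W.ι).appLE W ⊤ e t) : s = t := by
  have e' : (⊤ : W.toScheme.Opens) ≤ W.ι ⁻¹ᵁ W := by rw [W.ι_preimage_self]
  refine (bijective_ι_appLE W e').1 (injective_appLE q ?_)
  rw [appLE_appLE, appLE_appLE]
  exact h

/-- A faithfully flat chart through a point of a flat covering. -/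
theorem faithfullyFlat_appLE {Y X : Scheme.{u}} (p : Y ⟶ X) [Flat p] {D : X.Opens} (hD : IsAffineOpen D)
    {G : Y.Opens} (hG : IsAffineOpen G) (e : G ≤ p ⁻¹ᵁ D) (hsurj : ∀ x ∈ D, ∃ z ∈ G, p z = x) :
    (p.appLE D G e).hom.FaithfullyFlat := by
  letI : Algebra Γ(X, D) Γ(Y, G) := (p.appLE D G e).hom.toAlgebra
  haveI : Module.Flat Γ(X, D) Γ(Y, G) := Flat.flat_appLE p hD hG e
  show Module.FaithfullyFlat Γ(X, D) Γ(Y, G)
  refine Module.FaithfullyFlat.of_comap_surjective fun P => ?_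
  obtain ⟨z, hzG, hz⟩ := hsurj _ (BCCoh.fromSpec_mem hD P)
  refine ⟨hG.primeIdealOf ⟨z, hzG⟩, (IsAffineOpen.comap_primeIdealOf_appLE D hD G hG e hzG).trans
    (hD.fromSpec.isOpenEmbedding.injective ?_)⟩
  rw [hD.fromSpec_primeIdealOf]; exact hz

variable {X S U : Scheme.{u}} {f : X ⟶ S} {u : U ⟶ S} {c : Cocycle (pullback f u)}

/-- A chart of the descended module: a flat neighbourhood with an invariant frame. -/
structure Chart (T : Trans c) (y : X) where
  V : Scheme.{u}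
  j : V ⟶ pullback f u
  i : c.ι
  hj : (⊤ : V.Opens) ≤ j ⁻¹ᵁ c.D i
  flat : Flat (j ≫ pullback.fst f u)
  lfp : LocallyOfFinitePresentation (j ≫ pullback.fst f u)
  mem : ∃ v : V, (j ≫ pullback.fst f u) v = y
  τ : Γ(V, ⊤)
  τu : IsUnit τ
  rel : ∀ {Z : Scheme.{u}} (a b : Z ⟶ V)
    (h : (a ≫ j) ≫ pullback.fst f u = (b ≫ j) ≫ pullback.fst f u)
    (ea : (⊤ : Z.Opens) ≤ (a ≫ j) ⁻¹ᵁ c.D i) (eb : (⊤ : Z.Opens) ≤ (b ≫ j) ⁻¹ᵁ c.D i),
    b.appLE ⊤ ⊤ le_top τ = tr T.w (a ≫ j) (b ≫ j) h i i ⊤ ea eb * a.appLE ⊤ ⊤ le_top τ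

variable [Flat u] [LocallyOfFinitePresentation u] [Surjective u]

theorem exists_chart (T : Trans c) (y : X) : Nonempty (Chart T y) := by
  haveI : Flat (pullback.fst f u) := MorphismProperty.pullback_fst f u ‹_›
  haveI : LocallyOfFinitePresentation (pullback.fst f u) := MorphismProperty.pullback_fst f u ‹_›
  haveI : Surjective (pullback.fst f u) := MorphismProperty.pullback_fst f u ‹_›
  obtain ⟨z, rfl⟩ := (pullback.fst f u).surjective y
  obtain ⟨i, hzi⟩ := c.exists_mem z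
  obtain ⟨_, ⟨D₀, hD₀, rfl⟩, hyD, -⟩ :=
    X.isBasis_affineOpens.exists_subset_of_mem_open (Set.mem_univ (pullback.fst f u z)) isOpen_univ
  obtain ⟨_, ⟨G₀, hG₀, rfl⟩, hzG, hG₀'⟩ :=
    (pullback f u).isBasis_affineOpens.exists_subset_of_mem_open
      (show z ∈ c.D i ⊓ pullback.fst f u ⁻¹ᵁ D₀ from ⟨hzi, hyD⟩) (c.D i ⊓ pullback.fst f u ⁻¹ᵁ D₀).2
  have hG₀D : G₀ ≤ pullback.fst f u ⁻¹ᵁ D₀ := fun x hx => (hG₀' hx).2
  obtain ⟨b, hbim, hyb⟩ := hD₀.exists_basicOpen_le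
    (V := ⟨pullback.fst f u '' G₀, (pullback.fst f u).isOpenMap _ G₀.2⟩) ⟨pullback.fst f u z, z, hzG, rfl⟩ hyD
  let D := X.basicOpen b
  have hD : IsAffineOpen D := hD₀.basicOpen b
  let G := (pullback f u).basicOpen ((pullback.fst f u).appLE D₀ G₀ hG₀D b)
  have hG : IsAffineOpen G := hG₀.basicOpen _
  have hGeq : G = G₀ ⊓ pullback.fst f u ⁻¹ᵁ D := Scheme.basicOpen_appLE (pullback.fst f u) G₀ D₀ hG₀D b
  have hGD : G ≤ pullback.fst f u ⁻¹ᵁ D := hGeq ▸ inf_le_right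
  have hGi : G ≤ c.D i := fun x hx => (hG₀' ((hGeq ▸ inf_le_left : G ≤ G₀) hx)).1
  let φ := (pullback.fst f u).appLE D G hGD
  have hφ := faithfullyFlat_appLE (pullback.fst f u) hD hG hGD fun x hx => by
    obtain ⟨w, hw, hwx⟩ := hbim hx
    exact ⟨w, by rw [hGeq]; exact ⟨hw, show pullback.fst f u w ∈ D by rw [hwx]; exact hx⟩, hwx⟩
  let v : Spec Γ(pullback f u, G) ⟶ X := hG.fromSpec ≫ pullback.fst f u
  have hv : Spec.map φ ≫ hD.fromSpec = v := IsAffineOpen.SpecMap_appLE_fromSpec (pullback.fst f u) hD hG hGD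
  have hcond : (pullback.fst v v ≫ hG.fromSpec) ≫ pullback.fst f u =
      (pullback.snd v v ≫ hG.fromSpec) ≫ pullback.fst f u := by
    rw [Category.assoc, Category.assoc]; exact pullback.condition
  have hmemG : ∀ {Z : Scheme.{u}} (a : Z ⟶ Spec Γ(pullback f u, G)),
      (⊤ : Z.Opens) ≤ (a ≫ hG.fromSpec) ⁻¹ᵁ c.D i := fun a z _ => hGi (BCCoh.fromSpec_mem hG _)
  let θ := tr T.w (pullback.fst v v ≫ hG.fromSpec) (pullback.snd v v ≫ hG.fromSpec) hcond i i ⊤ (hmemG _) (hmemG _)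
  obtain ⟨x, hx, ⟨q, hq, hqx⟩, -⟩ := FppfPic26.exists_coboundary_near φ hφ hD.fromSpec hv θ
    (T.isUnit_tr _ _ _ _ _ _ _ _)
    (fun {Z} t₁ t₂ t₃ s₁₂ s₂₃ s₁₃ h12 h12' h23 h23' h13 h13' => by
      have k12 : (t₁ ≫ hG.fromSpec) ≫ pullback.fst f u = (t₂ ≫ hG.fromSpec) ≫ pullback.fst f u := by
        rw [← h12, ← h12']; simp only [Category.assoc]; exact congrArg (s₁₂ ≫ ·) pullback.condition
      have k23 : (t₂ ≫ hG.fromSpec) ≫ pullback.fst f u = (t₃ ≫ hG.fromSpec) ≫ pullback.fst f u := by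
        rw [← h23, ← h23']; simp only [Category.assoc]; exact congrArg (s₂₃ ≫ ·) pullback.condition
      rw [tr_comp s₁₂ hcond k12 (by rw [← Category.assoc, h12]) (by rw [← Category.assoc, h12']) i i ⊤ _ _ ⊤ le_top
          (hmemG t₁) (hmemG t₂),
        tr_comp s₂₃ hcond k23 (by rw [← Category.assoc, h23]) (by rw [← Category.assoc, h23']) i i ⊤ _ _ ⊤ le_top
          (hmemG t₂) (hmemG t₃),
        tr_comp s₁₃ hcond (k12.trans k23) (by rw [← Category.assoc, h13]) (by rw [← Category.assoc, h13']) i i ⊤ _ _ ⊤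
          le_top (hmemG t₁) (hmemG t₃)]
      exact T.cocycle _ _ _ k12 k23 i i i ⊤ _ _ _)
    (hD.primeIdealOf ⟨pullback.fst f u z, hyb⟩)
  let O : (Spec Γ(pullback f u, G)).Opens := (Spec Γ(pullback f u, G)).basicOpen x
  have eO : (⊤ : O.toScheme.Opens) ≤ O.ι ⁻¹ᵁ O := by rw [O.ι_preimage_self]
  have hu : IsUnit (res (le_top : O ≤ ⊤) x) :=
    RingedSpace.isUnit_res_basicOpen (Spec Γ(pullback f u, G)).toRingedSpace x
  refine ⟨⟨O.toScheme, O.ι ≫ hG.fromSpec, i, hmemG _, inferInstance, inferInstance, ⟨⟨q, hqx⟩, ?_⟩,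
    O.ι.appLE ⊤ ⊤ le_top x, ?_, ?_⟩⟩
  · have e : hD.fromSpec (Spec.map φ q) = pullback.fst f u z := by rw [hq, hD.fromSpec_primeIdealOf]
    rw [← e, Category.assoc]
    change (O.ι ≫ v) ⟨q, hqx⟩ = _
    rw [← hv]
    rfl
  · have := hu.map (O.ι.appLE O ⊤ eO).hom
    rwa [appLE_res'] at this
  · intro Z a b h ea eb
    let l : Z ⟶ pullback v v := pullback.lift (a ≫ O.ι) (b ≫ O.ι) (by
      simp only [v, Category.assoc] at h ⊢
      exact h)
    have X' := congrArg (l.appLE ⊤ ⊤ le_top) hx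
    rw [map_mul, appLE_appLE, appLE_appLE, appLE_congr (pullback.lift_fst _ _ _) _ le_top,
      appLE_congr (pullback.lift_snd _ _ _) _ le_top,
      tr_comp l hcond h (by rw [← Category.assoc, pullback.lift_fst, Category.assoc])
        (by rw [← Category.assoc, pullback.lift_snd, Category.assoc]) i i ⊤ _ _ ⊤ le_top ea eb] at X'
    rw [appLE_appLE, appLE_appLE]
    exact X'

theorem Chart.hj' {T : Trans c} {y : X} (C : Chart T y) {Z : Scheme.{u}} (a : Z ⟶ C.V) :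
    (⊤ : Z.Opens) ≤ (a ≫ C.j) ⁻¹ᵁ c.D C.i :=
  fun _ _ => C.hj trivial

/-- The image of a chart. -/
def Chart.E {T : Trans c} {y : X} (C : Chart T y) : X.Opens :=
  haveI := C.flat
  haveI := C.lfp
  ⟨Set.range (C.j ≫ pullback.fst f u), (C.j ≫ pullback.fst f u).isOpenMap.isOpen_range⟩

theorem Chart.mem_E {T : Trans c} {y : X} (C : Chart T y) : y ∈ C.E := C.mem

/-- The frame given by a chart, on a piece of the cocycle. -/
theorem Chart.exists_frame {T : Trans c} {y : X} (C : Chart T y) (k : c.ι) :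
    ∃ h : Γ(pullback f u, pullback.fst f u ⁻¹ᵁ C.E ⊓ c.D k), IsUnit h ∧
      ∀ {Z : Scheme.{u}} (a : Z ⟶ C.V) (z : Z ⟶ pullback f u)
        (e : (a ≫ C.j) ≫ pullback.fst f u = z ≫ pullback.fst f u)
        (ez : (⊤ : Z.Opens) ≤ z ⁻¹ᵁ (pullback.fst f u ⁻¹ᵁ C.E ⊓ c.D k)),
        z.appLE _ ⊤ ez h =
          tr T.w (a ≫ C.j) z e C.i k ⊤ (C.hj' a) (ez.trans (z.preimage_mono inf_le_right)) *
            a.appLE ⊤ ⊤ le_top C.τ := by
  haveI := C.flat
  haveI := C.lfp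
  let O : (pullback f u).Opens := pullback.fst f u ⁻¹ᵁ C.E ⊓ c.D k
  let pr := pullback.snd (C.j ≫ pullback.fst f u) (O.ι ≫ pullback.fst f u)
  haveI : Flat pr := MorphismProperty.pullback_snd _ _ C.flat
  haveI : LocallyOfFinitePresentation pr := MorphismProperty.pullback_snd _ _ C.lfp
  haveI : Surjective pr := ⟨fun w => by
    obtain ⟨v, hv⟩ : pullback.fst f u (O.ι w) ∈ C.E := w.2.1
    obtain ⟨r, -, hr⟩ := Scheme.Pullback.exists_preimage_pullback (f := C.j ≫ pullback.fst f u)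
      (g := O.ι ≫ pullback.fst f u) v w hv
    exact ⟨r, hr⟩⟩
  let A := pullback.fst (C.j ≫ pullback.fst f u) (O.ι ≫ pullback.fst f u)
  have hcond : (A ≫ C.j) ≫ pullback.fst f u = (pr ≫ O.ι) ≫ pullback.fst f u := by
    rw [Category.assoc, Category.assoc]; exact pullback.condition
  have epr : (⊤ : (pullback (C.j ≫ pullback.fst f u) (O.ι ≫ pullback.fst f u)).Opens) ≤ (pr ≫ O.ι) ⁻¹ᵁ c.D k :=
    fun r _ => (pr r).2.2
  let H : Γ(pullback (C.j ≫ pullback.fst f u) (O.ι ≫ pullback.fst f u), ⊤) :=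
    tr T.w (A ≫ C.j) (pr ≫ O.ι) hcond C.i k ⊤ (C.hj' A) epr * A.appLE ⊤ ⊤ le_top C.τ
  obtain ⟨s, hs⟩ := (GrpdQuot.sections_of_local_section pr pr (𝟙 _) (Category.id_comp pr) ⊤).2 H
    fun {W} g₁ g₂ e₁ e₂ hg => by
      have hb : g₁ ≫ pr ≫ O.ι = g₂ ≫ pr ≫ O.ι := by rw [← Category.assoc, hg, Category.assoc]
      have h12 : ((g₁ ≫ A) ≫ C.j) ≫ pullback.fst f u = ((g₂ ≫ A) ≫ C.j) ≫ pullback.fst f u := by
        rw [Category.assoc g₁ A, Category.assoc g₂ A, Category.assoc g₁, Category.assoc g₂, hcond,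
          ← Category.assoc g₁, ← Category.assoc g₂, hb]
      have ez : (⊤ : W.Opens) ≤ (g₂ ≫ pr ≫ O.ι) ⁻¹ᵁ c.D k := fun w _ => epr (Set.mem_univ (g₂ w))
      have h2z : ((g₂ ≫ A) ≫ C.j) ≫ pullback.fst f u = (g₂ ≫ pr ≫ O.ι) ≫ pullback.fst f u := by
        rw [Category.assoc g₂ A, Category.assoc g₂, hcond, ← Category.assoc]
      simp only [H, map_mul]
      erw [tr_comp g₁ hcond (h12.trans h2z) (Category.assoc _ _ _).symm hb C.i k ⊤ _ _ ⊤ e₁
          (C.hj' (g₁ ≫ A)) ez,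
        tr_comp g₂ hcond h2z (Category.assoc _ _ _).symm rfl C.i k ⊤ _ _ ⊤ e₂ (C.hj' (g₂ ≫ A)) ez,
        appLE_appLE g₁ A le_top e₁ C.τ, appLE_appLE g₂ A le_top e₂ C.τ,
        C.rel (g₁ ≫ A) (g₂ ≫ A) h12 (C.hj' _) (C.hj' _),
        T.cocycle _ _ _ h12 h2z C.i C.i k ⊤ (C.hj' (g₁ ≫ A)) (C.hj' (g₂ ≫ A)) ez]
      ring
  have eO : (⊤ : O.toScheme.Opens) ≤ O.ι ⁻¹ᵁ O := by rw [O.ι_preimage_self]
  obtain ⟨h, hh⟩ := (bijective_ι_appLE O eO).2 s
  have spec : ∀ {Z : Scheme.{u}} (a : Z ⟶ C.V) (z : Z ⟶ pullback f u)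
      (e : (a ≫ C.j) ≫ pullback.fst f u = z ≫ pullback.fst f u) (ez : (⊤ : Z.Opens) ≤ z ⁻¹ᵁ O),
      z.appLE _ ⊤ ez h = tr T.w (a ≫ C.j) z e C.i k ⊤ (C.hj' a) (ez.trans (z.preimage_mono inf_le_right)) *
        a.appLE ⊤ ⊤ le_top C.τ := by
    intro Z a z e ez
    let z' : Z ⟶ O.toScheme := IsOpenImmersion.lift O.ι z (by
      rintro _ ⟨w, rfl⟩; rw [Scheme.Opens.range_ι]; exact ez (Set.mem_univ w))
    have hz' : z' ≫ O.ι = z := IsOpenImmersion.lift_fac _ _ _
    let l := pullback.lift (f := C.j ≫ pullback.fst f u) (g := O.ι ≫ pullback.fst f u) a z' (by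
      rw [← Category.assoc, e, ← Category.assoc, hz'])
    have hla : l ≫ A = a := pullback.lift_fst _ _ _
    have hlb : l ≫ pr = z' := pullback.lift_snd _ _ _
    have h1 : z.appLE O ⊤ ez h = l.appLE ⊤ ⊤ le_top H := by
      rw [← hs, Scheme.Hom.app_eq_appLE]
      erw [appLE_appLE, ← hh, appLE_appLE, appLE_congr (show (l ≫ pr) ≫ O.ι = z by rw [hlb, hz']) _ ez]
    rw [h1]
    simp only [H, map_mul]
    rw [appLE_appLE, appLE_congr hla _ le_top,
      tr_comp l hcond e (by rw [← Category.assoc, hla]) (by rw [← Category.assoc, hlb, hz']) C.i k ⊤ _ _ ⊤ le_top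
        (C.hj' a) (ez.trans (z.preimage_mono inf_le_right))]
  refine ⟨h, ?_, spec⟩
  have hsu : IsUnit s := by
    obtain ⟨iH, hiH⟩ := ((T.isUnit_tr _ _ hcond C.i k ⊤ (C.hj' A) epr).mul
      (C.τu.map (A.appLE ⊤ ⊤ le_top).hom)).exists_right_inv
    obtain ⟨s', hs'⟩ := (GrpdQuot.sections_of_local_section pr pr (𝟙 _) (Category.id_comp pr) ⊤).2 iH
      fun {W} g₁ g₂ e₁ e₂ hg => by
        have eH : g₁.appLE _ ⊤ e₁ H = g₂.appLE _ ⊤ e₂ H := by
          rw [← hs, Scheme.Hom.app_eq_appLE, appLE_appLE, appLE_appLE]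
          exact appLE_congr hg _ _ _
        have f1 := congrArg (g₁.appLE _ ⊤ e₁) hiH
        have f2 := congrArg (g₂.appLE _ ⊤ e₂) hiH
        rw [map_mul, map_one] at f1 f2
        rw [eH] at f1
        exact (IsUnit.of_mul_eq_one _ f2).mul_left_cancel (f1.trans f2.symm)
    refine IsUnit.of_mul_eq_one s' ((GrpdQuot.sections_of_local_section pr pr (𝟙 _) (Category.id_comp pr) ⊤).1 ?_)
    rw [map_mul, map_one, hs, hs']
    exact hiH
  let E : Γ(pullback f u, O) ≃+* Γ(O.toScheme, ⊤) :=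
    RingEquiv.ofBijective (O.ι.appLE O ⊤ eO).hom (bijective_ι_appLE O eO)
  have h2 : IsUnit (E h) := (congrArg IsUnit hh).mpr hsu
  have h3 : IsUnit (E.symm (E h)) := h2.map E.symm
  rwa [E.symm_apply_apply] at h3

/-- Values of a frame at two points over the same point. -/
theorem Chart.frame_pair {T : Trans c} {y : X} (C : Chart T y) {k k' : c.ι}
    {h : Γ(pullback f u, pullback.fst f u ⁻¹ᵁ C.E ⊓ c.D k)} {h' : Γ(pullback f u, pullback.fst f u ⁻¹ᵁ C.E ⊓ c.D k')}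
    (hh : ∀ {Z : Scheme.{u}} (a : Z ⟶ C.V) (z : Z ⟶ pullback f u)
        (e : (a ≫ C.j) ≫ pullback.fst f u = z ≫ pullback.fst f u)
        (ez : (⊤ : Z.Opens) ≤ z ⁻¹ᵁ (pullback.fst f u ⁻¹ᵁ C.E ⊓ c.D k)),
        z.appLE _ ⊤ ez h = tr T.w (a ≫ C.j) z e C.i k ⊤ (C.hj' a) (ez.trans (z.preimage_mono inf_le_right)) *
          a.appLE ⊤ ⊤ le_top C.τ)
    (hh' : ∀ {Z : Scheme.{u}} (a : Z ⟶ C.V) (z : Z ⟶ pullback f u)
        (e : (a ≫ C.j) ≫ pullback.fst f u = z ≫ pullback.fst f u)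
        (ez : (⊤ : Z.Opens) ≤ z ⁻¹ᵁ (pullback.fst f u ⁻¹ᵁ C.E ⊓ c.D k')),
        z.appLE _ ⊤ ez h' = tr T.w (a ≫ C.j) z e C.i k' ⊤ (C.hj' a) (ez.trans (z.preimage_mono inf_le_right)) *
          a.appLE ⊤ ⊤ le_top C.τ)
    {Z : Scheme.{u}} (z z' : Z ⟶ pullback f u) (e : z ≫ pullback.fst f u = z' ≫ pullback.fst f u)
    (ez : (⊤ : Z.Opens) ≤ z ⁻¹ᵁ (pullback.fst f u ⁻¹ᵁ C.E ⊓ c.D k))
    (ez' : (⊤ : Z.Opens) ≤ z' ⁻¹ᵁ (pullback.fst f u ⁻¹ᵁ C.E ⊓ c.D k')) :
    z'.appLE _ ⊤ ez' h' = z.appLE _ ⊤ ez h *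
      tr T.w z z' e k k' ⊤ (ez.trans (z.preimage_mono inf_le_right)) (ez'.trans (z'.preimage_mono inf_le_right)) := by
  haveI := C.flat
  haveI := C.lfp
  let pr := pullback.snd (C.j ≫ pullback.fst f u) (z ≫ pullback.fst f u)
  haveI : Flat pr := MorphismProperty.pullback_snd _ _ C.flat
  haveI : LocallyOfFinitePresentation pr := MorphismProperty.pullback_snd _ _ C.lfp
  haveI : Surjective pr := ⟨fun w => by
    obtain ⟨v, hv⟩ : pullback.fst f u (z w) ∈ C.E := (ez (Set.mem_univ w)).1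
    obtain ⟨r, -, hr⟩ := Scheme.Pullback.exists_preimage_pullback (f := C.j ≫ pullback.fst f u)
      (g := z ≫ pullback.fst f u) v w hv
    exact ⟨r, hr⟩⟩
  let A := pullback.fst (C.j ≫ pullback.fst f u) (z ≫ pullback.fst f u)
  have h1 : (A ≫ C.j) ≫ pullback.fst f u = (pr ≫ z) ≫ pullback.fst f u := by
    rw [Category.assoc, Category.assoc]; exact pullback.condition
  have h2 : (pr ≫ z) ≫ pullback.fst f u = (pr ≫ z') ≫ pullback.fst f u := by
    rw [Category.assoc, Category.assoc]; exact congrArg (pr ≫ ·) e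
  refine injective_appLE pr ?_
  rw [map_mul, appLE_appLE, appLE_appLE,
    tr_comp pr e h2 rfl rfl k k' ⊤ _ _ ⊤ le_top (fun w _ => (ez (Set.mem_univ (pr w))).2)
      (fun w _ => (ez' (Set.mem_univ (pr w))).2),
    hh A (pr ≫ z) h1 (fun w _ => ez (Set.mem_univ (pr w))), hh' A (pr ≫ z') (h1.trans h2) (fun w _ => ez' (Set.mem_univ (pr w))),
    T.cocycle _ _ _ h1 h2 C.i k k' ⊤ (C.hj' A) (fun w _ => (ez (Set.mem_univ (pr w))).2)
      (fun w _ => (ez' (Set.mem_univ (pr w))).2)]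
  ring

/-- **Descent**: a class with transition units comes from downstairs. -/
theorem exists_descend (T : Trans c) : ∃ n : Pic X, pull (pullback.fst f u) n = cls c := by
  classical
  haveI : Flat (pullback.fst f u) := MorphismProperty.pullback_fst f u ‹_›
  haveI : LocallyOfFinitePresentation (pullback.fst f u) := MorphismProperty.pullback_fst f u ‹_›
  haveI : Surjective (pullback.fst f u) := MorphismProperty.pullback_fst f u ‹_›
  let p := pullback.fst f u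
  have Ch := fun y => (exists_chart T y).some
  choose h hu hh using fun y k => (Ch y).exists_frame k
  choose ih hih using fun y k => (hu y k).exists_right_inv
  let O : X → c.ι → (pullback f u).Opens := fun y k => pullback.fst f u ⁻¹ᵁ (Ch y).E ⊓ c.D k
  -- change of the piece
  have hk : ∀ (y : X) (k k' : c.ι) (W : (pullback f u).Opens) (e : W ≤ O y k) (e' : W ≤ O y k'),
      res e' (h y k') = res e (h y k) * c.G k k' (e.trans inf_le_right) (e'.trans inf_le_right) := by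
    intro y k k' W e e'
    have eW : (⊤ : W.toScheme.Opens) ≤ W.ι ⁻¹ᵁ W := by rw [W.ι_preimage_self]
    refine (bijective_ι_appLE W eW).1 ?_
    rw [map_mul, appLE_res', appLE_res', (Ch y).frame_pair (hh y k) (hh y k') W.ι W.ι rfl
      (eW.trans (W.ι.preimage_mono e)) (eW.trans (W.ι.preimage_mono e')), T.diag,
      ← appLE_G' c W.ι k k' (e.trans inf_le_right) (e'.trans inf_le_right) eW]
  -- the cocycle downstairs
  have hgl : ∀ y y', ∃ g : Γ(pullback f u, pullback.fst f u ⁻¹ᵁ ((Ch y).E ⊓ (Ch y').E)),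
      ∀ k, res inf_le_left g * res (le_inf (inf_le_left.trans ((pullback.fst f u).preimage_mono inf_le_right))
          inf_le_right) (h y' k) =
        (res (le_inf (inf_le_left.trans ((pullback.fst f u).preimage_mono inf_le_left)) inf_le_right) (h y k) :
          Γ(pullback f u, pullback.fst f u ⁻¹ᵁ ((Ch y).E ⊓ (Ch y').E) ⊓ c.D k)) := by
    intro y y'
    let P := pullback.fst f u ⁻¹ᵁ ((Ch y).E ⊓ (Ch y').E)
    have l1 : ∀ k, P ⊓ c.D k ≤ O y k := fun k =>
      le_inf (inf_le_left.trans ((pullback.fst f u).preimage_mono inf_le_left)) inf_le_right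
    have l2 : ∀ k, P ⊓ c.D k ≤ O y' k := fun k =>
      le_inf (inf_le_left.trans ((pullback.fst f u).preimage_mono inf_le_right)) inf_le_right
    obtain ⟨g, hg⟩ := exists_glue (fun k => P ⊓ c.D k) (O := P) (fun _ => inf_le_left)
      (fun x hx => by obtain ⟨k, hk'⟩ := c.exists_mem x; exact Opens.mem_iSup.2 ⟨k, hx, hk'⟩)
      (fun k => res (l1 k) (h y k) * res (l2 k) (ih y' k)) (fun k k' => by
        let W := (P ⊓ c.D k) ⊓ (P ⊓ c.D k')
        have a1 := hk y k k' W (inf_le_left.trans (l1 k)) (inf_le_right.trans (l1 k'))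
        have a2 := hk y' k k' W (inf_le_left.trans (l2 k)) (inf_le_right.trans (l2 k'))
        have f1 := congrArg (res (inf_le_left.trans (l2 k) : W ≤ O y' k)) (hih y' k)
        have f2 := congrArg (res (inf_le_right.trans (l2 k') : W ≤ O y' k')) (hih y' k')
        simp only [map_mul, map_one] at f1 f2
        simp only [map_mul, res_res]
        rw [a1]
        rw [a2] at f2
        set G := c.G k k' _ _
        set H := res (_ : W ≤ O y k) (h y k)
        set H' := res (_ : W ≤ O y' k) (h y' k)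
        set I' := res (_ : W ≤ O y' k) (ih y' k)
        set J' := res (_ : W ≤ O y' k') (ih y' k')
        linear_combination (-(H * I')) * f2 + (H * G * J') * f1)
    refine ⟨g, fun k => ?_⟩
    have f1 := congrArg (res (l2 k)) (hih y' k)
    rw [map_mul, map_one] at f1
    rw [hg k]
    linear_combination (res (l1 k) (h y k)) * f1
  choose g hg using hgl
  have hg' : ∀ (y y' : X) (k : c.ι) (W : (pullback f u).Opens) (eP : W ≤ pullback.fst f u ⁻¹ᵁ ((Ch y).E ⊓ (Ch y').E))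
      (e : W ≤ O y k) (e' : W ≤ O y' k), res eP (g y y') * res e' (h y' k) = res e (h y k) := by
    intro y y' k W eP e e'
    have := congrArg (res (le_inf eP (e.trans inf_le_right) : W ≤ _ ⊓ c.D k)) (hg y y' k)
    rw [map_mul, res_res, res_res, res_res] at this
    exact this
  have hsec := fun V => GrpdQuot.sections_of_local_section (pullback.fst f u) (pullback.fst f u) (𝟙 _)
    (Category.id_comp _) V
  have hinv : ∀ y y', ∃ s, (pullback.fst f u).app ((Ch y).E ⊓ (Ch y').E) s = g y y' := fun y y' => by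
    refine (hsec _).2 _ fun {Z} z z' ez ez' e => ?_
    refine Ample.eq_of_cover (fun q : c.ι × c.ι => z ⁻¹ᵁ c.D q.1 ⊓ z' ⁻¹ᵁ c.D q.2) (fun _ => le_top) (fun w _ => by
      obtain ⟨k, hk'⟩ := c.exists_mem (z w)
      obtain ⟨k', hk''⟩ := c.exists_mem (z' w)
      exact Opens.mem_iSup.2 ⟨(k, k'), hk', hk''⟩) fun q => ?_
    let W := z ⁻¹ᵁ c.D q.1 ⊓ z' ⁻¹ᵁ c.D q.2
    have eW : (⊤ : W.toScheme.Opens) ≤ W.ι ⁻¹ᵁ W := by rw [W.ι_preimage_self]
    refine (bijective_ι_appLE W eW).1 ?_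
    rw [appLE_res', appLE_res', appLE_appLE, appLE_appLE]
    have e' : (W.ι ≫ z) ≫ pullback.fst f u = (W.ι ≫ z') ≫ pullback.fst f u := by
      rw [Category.assoc, Category.assoc, e]
    let P := pullback.fst f u ⁻¹ᵁ ((Ch y).E ⊓ (Ch y').E)
    have eP : (⊤ : W.toScheme.Opens) ≤ (W.ι ≫ z) ⁻¹ᵁ P := fun w _ => ez (Set.mem_univ (W.ι w))
    have eP' : (⊤ : W.toScheme.Opens) ≤ (W.ι ≫ z') ⁻¹ᵁ P := fun w _ => ez' (Set.mem_univ (W.ι w))
    have ey : (⊤ : W.toScheme.Opens) ≤ (W.ι ≫ z) ⁻¹ᵁ O y q.1 := fun w hw => ⟨(eP hw).1, w.2.1⟩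
    have ey₂ : (⊤ : W.toScheme.Opens) ≤ (W.ι ≫ z) ⁻¹ᵁ O y' q.1 := fun w hw => ⟨(eP hw).2, w.2.1⟩
    have ez₁ : (⊤ : W.toScheme.Opens) ≤ (W.ι ≫ z') ⁻¹ᵁ O y q.2 := fun w hw => ⟨(eP' hw).1, w.2.2⟩
    have ez₂ : (⊤ : W.toScheme.Opens) ≤ (W.ι ≫ z') ⁻¹ᵁ O y' q.2 := fun w hw => ⟨(eP' hw).2, w.2.2⟩
    have ek : ∀ (γ : W.toScheme ⟶ pullback f u) (k : c.ι) (a : (⊤ : W.toScheme.Opens) ≤ γ ⁻¹ᵁ P)
        (b : (⊤ : W.toScheme.Opens) ≤ γ ⁻¹ᵁ O y k) (b' : (⊤ : W.toScheme.Opens) ≤ γ ⁻¹ᵁ O y' k),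
        γ.appLE _ ⊤ a (g y y') * γ.appLE _ ⊤ b' (h y' k) = γ.appLE _ ⊤ b (h y k) := by
      intro γ k a b b'
      have := congrArg (γ.appLE _ ⊤ (le_pre_inf (le_pre_inf a b) b'))
        (hg' y y' k (P ⊓ O y k ⊓ O y' k) (inf_le_left.trans inf_le_left) (inf_le_left.trans inf_le_right) inf_le_right)
      rw [map_mul, appLE_res', appLE_res', appLE_res'] at this
      exact this
    have q1 := ek (W.ι ≫ z) q.1 eP ey ey₂
    have q2 := ek (W.ι ≫ z') q.2 eP' ez₁ ez₂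
    rw [(Ch y).frame_pair (hh y q.1) (hh y q.2) (W.ι ≫ z) (W.ι ≫ z') e' ey ez₁,
      (Ch y').frame_pair (hh y' q.1) (hh y' q.2) (W.ι ≫ z) (W.ι ≫ z') e' ey₂ ez₂, ← q1] at q2
    refine (((hu y' q.1).map ((W.ι ≫ z).appLE _ ⊤ ey₂).hom).mul (T.isUnit_tr (W.ι ≫ z) (W.ι ≫ z') e' q.1 q.2 ⊤
      (fun w _ => w.2.1) (fun w _ => w.2.2))).mul_right_cancel ?_
    linear_combination -q2
  choose s hs using hinv
  have hres : ∀ (y y' : X) (V : X.Opens) (e : V ≤ (Ch y).E) (e' : V ≤ (Ch y').E) (k : c.ι)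
      (W : (pullback f u).Opens) (eW : W ≤ pullback.fst f u ⁻¹ᵁ V) (ek : W ≤ c.D k),
      res eW ((pullback.fst f u).app V (res (le_inf e e') (s y y'))) *
          res (le_inf (eW.trans ((pullback.fst f u).preimage_mono e')) ek : W ≤ O y' k) (h y' k) =
        res (le_inf (eW.trans ((pullback.fst f u).preimage_mono e)) ek : W ≤ O y k) (h y k) := by
    intro y y' V e e' k W eW ek
    have h1 := congrArg (res (eW.trans ((pullback.fst f u).preimage_mono (le_inf e e')))) (hs y y')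
    rw [Scheme.Hom.app_eq_appLE, res_appLE'] at h1
    rw [Scheme.Hom.app_eq_appLE, res_appLE', appLE_res', h1]
    exact hg' y y' k W _ _ _
  have hcov : ∀ V : X.Opens, pullback.fst f u ⁻¹ᵁ V ≤ ⨆ k, pullback.fst f u ⁻¹ᵁ V ⊓ c.D k := fun V x hx => by
    obtain ⟨k, hk'⟩ := c.exists_mem x
    exact Opens.mem_iSup.2 ⟨k, hx, hk'⟩
  let c' : Cocycle X :=
    { ι := X
      D := fun y => (Ch y).E
      g := s
      cover := eq_top_iff.mpr fun y _ => Opens.mem_iSup.mpr ⟨y, (Ch y).mem_E⟩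
      self := fun y V e => (hsec V).1 (Ample.eq_of_cover (fun k => pullback.fst f u ⁻¹ᵁ V ⊓ c.D k)
        (fun _ => inf_le_left) (hcov V) fun k => by
          rw [map_one, map_one]
          refine ((hu y k).map (res (le_inf (inf_le_left.trans ((pullback.fst f u).preimage_mono e)) inf_le_right :
            pullback.fst f u ⁻¹ᵁ V ⊓ c.D k ≤ O y k))).mul_right_cancel ?_
          rw [hres y y V e e k _ inf_le_left inf_le_right, one_mul])
      change := fun i j l V hi hj hl => (hsec V).1 (Ample.eq_of_cover (fun k => pullback.fst f u ⁻¹ᵁ V ⊓ c.D k)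
        (fun _ => inf_le_left) (hcov V) fun k => by
          refine ((hu l k).map (res (le_inf (inf_le_left.trans ((pullback.fst f u).preimage_mono hl)) inf_le_right :
            pullback.fst f u ⁻¹ᵁ V ⊓ c.D k ≤ O l k))).mul_right_cancel ?_
          rw [map_mul, map_mul, hres i l V hi hl k _ inf_le_left inf_le_right, mul_assoc,
            hres j l V hj hl k _ inf_le_left inf_le_right, hres i j V hi hj k _ inf_le_left inf_le_right]) }
  refine ⟨cls c', ?_⟩
  let e : Cocycle (pullback f u) :=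
    { ι := X × c.ι
      D := fun q => O q.1 q.2
      g := fun q q' => c.G q.2 q'.2 (inf_le_left.trans inf_le_right) (inf_le_right.trans inf_le_right)
      cover := eq_top_iff.mpr fun x _ => by
        obtain ⟨k, hk'⟩ := c.exists_mem x
        exact Opens.mem_iSup.mpr ⟨(pullback.fst f u x, k), (Ch _).mem_E, hk'⟩
      self := fun q W hW => by rw [Cocycle.res_G]; exact c.G_self _ _ _
      change := fun q q' q'' W hq hq' hq'' => by
        simp only [Cocycle.res_G]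
        exact c.G_trans q.2 q'.2 q''.2 (hq.trans inf_le_right) (hq'.trans inf_le_right) (hq''.trans inf_le_right) }
  have heG : ∀ (q q' : e.ι) (W : (pullback f u).Opens) (a : W ≤ O q.1 q.2) (b : W ≤ O q'.1 q'.2),
      e.G q q' a b = c.G q.2 q'.2 (a.trans inf_le_right) (b.trans inf_le_right) := fun q q' W a b =>
    c.res_G q.2 q'.2 (inf_le_left.trans inf_le_right : O q.1 q.2 ⊓ O q'.1 q'.2 ≤ c.D q.2)
      (inf_le_right.trans inf_le_right : O q.1 q.2 ⊓ O q'.1 q'.2 ≤ c.D q'.2) _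
  have h1 : cls e = cls c := Quotient.sound (eqv_of_map (c := e) (c' := c) (fun q => q.2) (fun q => inf_le_right)
    (fun _ => 1) (fun _ => isUnit_one) fun q q' W a b => by rw [map_one, map_one, one_mul, mul_one, heG])
  have h2 : cls e = cls (c'.comap (pullback.fst f u)) :=
    Quotient.sound (eqv_of_map (c := e) (c' := c'.comap (pullback.fst f u)) (fun q => q.1) (fun q => inf_le_left)
      (fun q => h q.1 q.2) (fun q => hu _ _) fun q q' W a b => by
      have a' : W ≤ pullback.fst f u ⁻¹ᵁ (Ch q.1).E := a.trans inf_le_left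
      have b' : W ≤ pullback.fst f u ⁻¹ᵁ (Ch q'.1).E := b.trans inf_le_left
      have k1 := hk q'.1 q.2 q'.2 W (le_inf b' (a.trans inf_le_right)) b
      have hG : (c'.comap (pullback.fst f u)).G q.1 q'.1 a' b' =
          res (le_pre_inf a' b') (g q.1 q'.1) := by
        rw [← hs, Scheme.Hom.app_eq_appLE, res_appLE', comap_G']
      have k2 := hg' q.1 q'.1 q.2 W (le_pre_inf a' b') a (le_inf b' (a.trans inf_le_right))
      rw [heG, hG, k1, ← k2]
      ring)
  rw [pull_cls, ← h2, h1]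

end GrothLib.RigDesc26
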