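import Groth.Agent.Lib.RigDesc26.Main
import Groth.Prelude.Def_AbDual

/-!
# Rigidified classes form a sheaf
-/

set_option autoImplicit false
set_option linter.all false
set_option backward.isDefEq.respectTransparency false
set_option maxHeartbeats 1000000
set_option synthInstance.maxHeartbeats 200000

universe u

open CategoryTheory CategoryTheory.Limits AlgebraicGeometry Opposite TopologicalSpace
open GrothLib.Ample GrothLib.Cube
open GrothLib.PicDescent (sec q₁ q₂)

noncomputable section

namespace GrothLib.RigDesc26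

/-- Every class is the class of an invertible module. -/
theorem exists_module {X : Scheme.{u}} (n : Pic X) : ∃ (M : X.Modules) (hM : PicF.IsInvertible M), clsMod hM = n := by
  obtain ⟨c⟩ := n
  exact ⟨c.twist 1, c.isInvertible_twist 1, clsMod_eq _ (Iso.refl _)⟩

section

variable {X S U : Scheme.{u}} (f : X ⟶ S) (m : S ⟶ X) (hm : m ≫ f = 𝟙 S)
  (hb : ∀ {T : Scheme.{u}} (g : T ⟶ S) (W : T.Opens), Function.Bijective ((pullback.snd f g).app W))
  (u : U ⟶ S) [Flat u] [LocallyOfFinitePresentation u] [Surjective u]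

include hm hb in
/-- A rigidified class trivial on a flat covering is trivial. -/
theorem eq_one_of_pull {n : Pic X} (h1 : pull (pullback.fst f u) n = 1) (h2 : pull m n = 1) : n = 1 := by
  obtain ⟨M, hM, rfl⟩ := exists_module n
  obtain ⟨N, hN, ⟨e⟩⟩ := FppfPic26.exists_base (f := f) hb hM u
    ((clsMod_eq_one_iff (Ample.isInvertible_pullback _ hM)).1 ((clsMod_pullback _ hM).trans h1))
  have h3 : clsMod hM = pull f (clsMod hN) := by
    rw [← clsMod_pullback f hN]
    exact (clsMod_eq_iff _ _).2 ⟨e⟩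
  rw [h3, pull_comp, hm, pull_id] at h2
  rw [h3, h2, map_one]

include hb in
/-- A rigidified class with equal pullbacks to the square descends to a rigidified class. -/
theorem exists_rigidified (x : Pic (pullback f u)) (hx : pull (sec f m hm u) x = 1)
    (heq : pull (q₁ f u) x = pull (q₂ f u) x) :
    ∃ n : Pic X, pull m n = 1 ∧ pull (pullback.fst f u) n = x := by
  obtain ⟨c⟩ := x
  obtain ⟨T⟩ := exists_trans f u m hm (fun {T} g => hb g ⊤) c hx heq
  obtain ⟨n₀, hn₀⟩ := exists_descend T
  refine ⟨n₀ * (pull f (pull m n₀))⁻¹, ?_, ?_⟩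
  · rw [map_mul, map_inv, pull_comp m f, hm, pull_id, mul_inv_cancel]
  · have h : pull u (pull m n₀) = 1 := by
      rw [pull_comp, ← show sec f m hm u ≫ pullback.fst f u = u ≫ m from pullback.lift_fst _ _ _, ← pull_comp, hn₀]
      exact hx
    rw [map_mul, map_inv, pull_comp _ f, pullback.condition, ← pull_comp _ u, h, map_one, inv_one, mul_one]
    exact hn₀

end

variable {X S : Scheme.{u}} (f : X ⟶ S) (σ : S ⟶ X) (hσ : σ ≫ f = 𝟙 S)

theorem isPullback_XTmap {T' T : Over S} (g : T' ⟶ T) :
    IsPullback (PicF.XTmap f g) (PicF.XTproj f T') (PicF.XTproj f T) g.left := by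
  refine IsPullback.of_right ?_ (pullback.lift_snd _ _ _) (IsPullback.of_hasPullback f T.hom)
  rw [show PicF.XTmap f g ≫ pullback.fst f T.hom = pullback.fst f T'.hom from
    (pullback.lift_fst _ _ _).trans (Category.comp_id _), Over.w g]
  exact IsPullback.of_hasPullback f T'.hom

theorem XTmap_comp {T'' T' T : Over S} (a : T'' ⟶ T') (b : T' ⟶ T) :
    PicF.XTmap f a ≫ PicF.XTmap f b = PicF.XTmap f (a ≫ b) := by
  refine pullback.hom_ext ?_ ?_ <;> simp [PicF.XTmap]

theorem secT_XTmap {T' T : Over S} (g : T' ⟶ T) :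
    PicF.secT f σ hσ T' ≫ PicF.XTmap f g = g.left ≫ PicF.secT f σ hσ T := by
  refine pullback.hom_ext ?_ ?_
  · simp [PicF.XTmap, PicF.secT]
  · simp [PicF.XTmap, PicF.secT]
    exact Category.id_comp _

theorem secT_proj (T : Over S) : PicF.secT f σ hσ T ≫ PicF.XTproj f T = 𝟙 T.left := pullback.lift_snd _ _ _

variable (ha : ∀ (T : Over S) (U : T.left.Opens), IsIso ((PicF.XTproj f T).app U))

include ha in
theorem bijective_app_XT (T : Over S) {T' : Scheme.{u}} (g : T' ⟶ T.left) (W : T'.Opens) :
    Function.Bijective ((pullback.snd (PicF.XTproj f T) g).app W) := by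
  let e := pullbackLeftPullbackSndIso f T.hom g
  refine FppfPic26.bijective_app_congr (pullbackLeftPullbackSndIso_hom_snd f T.hom g) W ?_
  rw [Scheme.Hom.comp_app]
  exact (ConcreteCategory.bijective_of_isIso (e.hom.app (pullback.snd f (g ≫ T.hom) ⁻¹ᵁ W))).comp
    ((ConcreteCategory.isIso_iff_bijective _).1 (ha (Over.mk (g ≫ T.hom)) W))

variable (T : Over S) {U : Scheme.{u}} (u : U ⟶ T.left) [Flat u] [LocallyOfFinitePresentation u] [Surjective u]

include ha in
/-- Rigidified classes are determined on a flat covering. -/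
theorem eq_one_of_XTmap {n : Pic (PicF.XT f T)} (h1 : pull (PicF.XTmap f (AbDual.ovrHom T u)) n = 1)
    (h2 : pull (PicF.secT f σ hσ T) n = 1) : n = 1 := by
  have hι := (isPullback_XTmap f (AbDual.ovrHom T u)).isoPullback_inv_fst
  refine eq_one_of_pull (PicF.XTproj f T) (PicF.secT f σ hσ T) (secT_proj f σ hσ T) (bijective_app_XT f ha T) u ?_ h2
  have h := congrArg (pull (isPullback_XTmap f (AbDual.ovrHom T u)).isoPullback.inv) h1
  rwa [pull_comp, hι, map_one] at h

include ha in
/-- Rigidified classes descend along flat coverings. -/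
theorem exists_of_XTmap (x : Pic (PicF.XT f (AbDual.ovr T u)))
    (hx : pull (PicF.secT f σ hσ (AbDual.ovr T u)) x = 1)
    (heq : pull (PicF.XTmap f (AbDual.ovrHom (AbDual.ovr T u) (pullback.fst u u))) x =
      pull (PicF.XTmap f (Over.homMk (pullback.snd u u) (pullback.condition_assoc T.hom).symm :
        AbDual.ovr (AbDual.ovr T u) (pullback.fst u u) ⟶ AbDual.ovr T u)) x) :
    ∃ n : Pic (PicF.XT f T), pull (PicF.secT f σ hσ T) n = 1 ∧ pull (PicF.XTmap f (AbDual.ovrHom T u)) n = x := by
  have hsq : IsPullback (PicF.XTmap f (AbDual.ovrHom T u)) (PicF.XTproj f (AbDual.ovr T u)) (PicF.XTproj f T) u :=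
    isPullback_XTmap f (AbDual.ovrHom T u)
  let ι := hsq.isoPullback
  have hι₁ : ι.hom ≫ pullback.fst (PicF.XTproj f T) u = PicF.XTmap f (AbDual.ovrHom T u) :=
    hsq.isoPullback_hom_fst
  have hι₂ : ι.hom ≫ pullback.snd (PicF.XTproj f T) u = PicF.XTproj f (AbDual.ovr T u) :=
    hsq.isoPullback_hom_snd
  let κ : pullback (PicF.XTproj f T) (pullback.fst u u ≫ u) ⟶
      PicF.XT f (AbDual.ovr (AbDual.ovr T u) (pullback.fst u u)) :=
    pullback.lift (pullback.fst _ _ ≫ pullback.fst f T.hom) (pullback.snd _ _) (by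
      rw [Category.assoc, pullback.condition (f := f), ← Category.assoc]
      rw [show pullback.fst (PicF.XTproj f T) (pullback.fst u u ≫ u) ≫ pullback.snd f T.hom =
        pullback.snd _ _ ≫ pullback.fst u u ≫ u from pullback.condition]
      simp)
  have k₁ : κ ≫ PicF.XTmap f (AbDual.ovrHom (AbDual.ovr T u) (pullback.fst u u)) ≫ ι.hom = q₁ (PicF.XTproj f T) u := by
    refine pullback.hom_ext ?_ ?_
    · rw [PicDescent.q₁_fst, Category.assoc, Category.assoc, hι₁, XTmap_comp]
      refine pullback.hom_ext ?_ ?_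
      · simp [κ, PicF.XTmap]
      · simp [κ, PicF.XTmap]
        exact pullback.condition.symm
    · rw [Category.assoc, Category.assoc, hι₂, (isPullback_XTmap f _).w, ← Category.assoc,
        show κ ≫ PicF.XTproj f (AbDual.ovr (AbDual.ovr T u) (pullback.fst u u)) = pullback.snd _ _ from pullback.lift_snd _ _ _]
      exact (pullback.lift_snd _ _ _).symm
  have k₂ : κ ≫ PicF.XTmap f (Over.homMk (pullback.snd u u) (pullback.condition_assoc T.hom).symm :
      AbDual.ovr (AbDual.ovr T u) (pullback.fst u u) ⟶ AbDual.ovr T u) ≫ ι.hom = q₂ (PicF.XTproj f T) u := by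
    refine pullback.hom_ext ?_ ?_
    · rw [PicDescent.q₂_fst, Category.assoc, Category.assoc, hι₁, XTmap_comp]
      refine pullback.hom_ext ?_ ?_
      · simp [κ, PicF.XTmap]
      · simp [κ, PicF.XTmap, ← pullback.condition (f := u) (g := u)]
        exact pullback.condition.symm
    · rw [Category.assoc, Category.assoc, hι₂, (isPullback_XTmap f _).w, ← Category.assoc,
        show κ ≫ PicF.XTproj f (AbDual.ovr (AbDual.ovr T u) (pullback.fst u u)) = pullback.snd _ _ from pullback.lift_snd _ _ _]
      exact (pullback.lift_snd _ _ _).symm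
  obtain ⟨n, hn₁, hn₂⟩ := exists_rigidified (PicF.XTproj f T) (PicF.secT f σ hσ T) (secT_proj f σ hσ T)
    (bijective_app_XT f ha T) u (pull ι.inv x) (by
      rw [pull_comp, show sec (PicF.XTproj f T) (PicF.secT f σ hσ T) (secT_proj f σ hσ T) u ≫ ι.inv =
        PicF.secT f σ hσ (AbDual.ovr T u) from ?_]
      · exact hx
      · rw [Iso.comp_inv_eq]
        refine pullback.hom_ext ?_ ?_
        · rw [Category.assoc, hι₁, secT_XTmap]
          exact pullback.lift_fst _ _ _
        · rw [Category.assoc, hι₂, secT_proj]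
          exact pullback.lift_snd _ _ _) (by
      rw [← k₁, ← k₂, pull_comp, pull_comp]
      simp only [Category.assoc, Iso.hom_inv_id, Category.comp_id]
      rw [← pull_comp, ← pull_comp κ, heq])
  refine ⟨n, hn₁, ?_⟩
  rw [← hι₁, ← pull_comp, hn₂, pull_comp, Iso.hom_inv_id, pull_id]

end GrothLib.RigDesc26
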