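import Groth.Agent.Lib.RigDesc26.Pic
import Groth.Agent.Lib.RigDesc26.Disjoint
import Groth.Agent.Lib.PicSep26.Separated

/-!
# Points of a scheme representing the relative Picard sheaf
-/

set_option autoImplicit false
set_option linter.all false
set_option backward.isDefEq.respectTransparency false
set_option maxHeartbeats 1000000
set_option synthInstance.maxHeartbeats 200000

universe u

open CategoryTheory CategoryTheory.Limits AlgebraicGeometry Opposite TopologicalSpace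
open GrothLib.Cube

noncomputable section

namespace GrothLib.RigDesc26

/-- An fppf covering gives a single faithfully flat map from a disjoint union of members. -/
theorem exists_sigma_of_mem {T : Scheme.{u}} {R : Presieve T} (hR : R ∈ Scheme.fppfPrecoverage T) :
    ∃ (Y : T → Scheme.{u}) (g : ∀ t, Y t ⟶ T), (∀ t, R (g t)) ∧ Flat (Sigma.desc g) ∧
      LocallyOfFinitePresentation (Sigma.desc g) ∧ Surjective (Sigma.desc g) := by
  choose Y g hg hf hl a ha using fun t => PicSep26.exists_mem_range hR t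
  exact ⟨Y, g, hg, IsZariskiLocalAtSource.sigmaDesc hf, IsZariskiLocalAtSource.sigmaDesc hl,
    ⟨fun t => ⟨Sigma.ι Y t (a t), by rw [← Scheme.Hom.comp_apply, Sigma.ι_desc]; exact ha t⟩⟩⟩

/-- Invertible classes are trivial near every point. -/
theorem exists_pull_eq_one {Y : Scheme.{u}} (N : Pic Y) (y : Y) : ∃ U : Y.Opens, y ∈ U ∧ pull U.ι N = 1 := by
  obtain ⟨M, hM, rfl⟩ := exists_module N
  obtain ⟨U, hy, ⟨e⟩⟩ := hM y
  refine ⟨U, hy, ?_⟩
  rw [← clsMod_pullback U.ι hM, clsMod_eq_one_iff]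
  exact ⟨((Scheme.Modules.restrictFunctorIsoPullback U.ι).app M).symm ≪≫ e⟩

variable {X S : Scheme.{u}} (f : X ⟶ S) {P : Over S} (φ : ∀ T : Over S, PicF.Cl (PicF.XT f T) → (T ⟶ P))

/-- The point defined by a class. -/
def pt (T : Over S) (n : Pic (PicF.XT f T)) : T ⟶ P := φ T (PicF.cl (exists_module n).choose)

theorem pt_clsMod (T : Over S) {M : (PicF.XT f T).Modules} (hM : PicF.IsInvertible M) :
    pt f φ T (clsMod hM) = φ T (PicF.cl M) := by
  obtain ⟨h1, h2⟩ := (exists_module (clsMod hM)).choose_spec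
  exact congrArg (φ T) (PicSep26.cl_eq_iff.2 ((clsMod_eq_iff h1 hM).1 h2))

variable {φ} (hP : AbDual.IsRelPicK Scheme.fppfPrecoverage f P φ)

include hP in
theorem pt_pull {T T' : Over S} (g : T' ⟶ T) (n : Pic (PicF.XT f T)) :
    pt f φ T' (pull (PicF.XTmap f g) n) = g ≫ pt f φ T n := by
  obtain ⟨M, hM, rfl⟩ := exists_module n
  rw [← clsMod_pullback _ hM, pt_clsMod, pt_clsMod]
  exact hP.natural T T' g _ ⟨M, rfl, hM⟩

variable (σ : S ⟶ X) (hσ : σ ≫ f = 𝟙 S)

theorem XTmap_proj {T T' : Over S} (g : T' ⟶ T) : PicF.XTmap f g ≫ PicF.XTproj f T = PicF.XTproj f T' ≫ g.left :=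
  (isPullback_XTmap f g).w

section pieces

variable (T : Over S) {κ : Type u} (Y : κ → Scheme.{u}) (g : ∀ t, Y t ⟶ T.left)

/-- The inclusion of a member into the union. -/
def inc (t : κ) : AbDual.ovr T (g t) ⟶ AbDual.ovr T (Sigma.desc g) :=
  Over.homMk (Sigma.ι Y t) (Sigma.ι_desc_assoc _ _ _)

theorem inc_ovrHom (t : κ) : inc T Y g t ≫ AbDual.ovrHom T (Sigma.desc g) = AbDual.ovrHom T (g t) :=
  Over.OverMorphism.ext (Sigma.ι_desc _ _)

instance isOpenImmersion_inc (t : κ) : IsOpenImmersion (PicF.XTmap f (inc T Y g t)) :=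
  MorphismProperty.of_isPullback (P := @IsOpenImmersion) (isPullback_XTmap f (inc T Y g t)).flip
    (inferInstanceAs (IsOpenImmersion (Sigma.ι Y t)))

theorem cover_inc (x : PicF.XT f (AbDual.ovr T (Sigma.desc g))) : ∃ t z, PicF.XTmap f (inc T Y g t) z = x := by
  obtain ⟨t, y, hy⟩ := (sigmaOpenCover Y).exists_eq (PicF.XTproj f (AbDual.ovr T (Sigma.desc g)) x)
  obtain ⟨z, hz, -⟩ := Scheme.Pullback.exists_preimage_pullback (f := PicF.XTproj f (AbDual.ovr T (Sigma.desc g)))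
    (g := (inc T Y g t).left) x y hy.symm
  exact ⟨t, (isPullback_XTmap f (inc T Y g t)).isoPullback.inv z, by
    rw [← Scheme.Hom.comp_apply, IsPullback.isoPullback_inv_fst]; exact hz⟩

theorem disjoint_inc (t t' : κ) (h : t ≠ t') (z z') :
    PicF.XTmap f (inc T Y g t) z ≠ PicF.XTmap f (inc T Y g t') z' := fun e => by
  have e' := congrArg (PicF.XTproj f (AbDual.ovr T (Sigma.desc g))) e
  rw [← Scheme.Hom.comp_apply, ← Scheme.Hom.comp_apply, XTmap_proj, XTmap_proj, Scheme.Hom.comp_apply,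
    Scheme.Hom.comp_apply] at e'
  exact (disjoint_opensRange_sigmaι Y t t' h).le_bot
    ⟨⟨PicF.XTproj f (AbDual.ovr T (g t)) z, rfl⟩, ⟨PicF.XTproj f (AbDual.ovr T (g t')) z', e'.symm⟩⟩

end pieces

theorem secT_pull {T T' : Over S} (g : T' ⟶ T) (n : Pic (PicF.XT f T)) (h : pull (PicF.secT f σ hσ T) n = 1) :
    pull (PicF.secT f σ hσ T') (pull (PicF.XTmap f g) n) = 1 := by
  rw [pull_comp, secT_XTmap, ← pull_comp, h, map_one]

variable (ha : ∀ (T : Over S) (U : T.left.Opens), IsIso ((PicF.XTproj f T).app U))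

include hP ha in
theorem eq_of_pt (T : Over S) {n n' : Pic (PicF.XT f T)} (hn : pull (PicF.secT f σ hσ T) n = 1)
    (hn' : pull (PicF.secT f σ hσ T) n' = 1) (h : pt f φ T n = pt f φ T n') : n = n' := by
  obtain ⟨M, hM, rfl⟩ := exists_module n
  obtain ⟨M', hM', rfl⟩ := exists_module n'
  rw [pt_clsMod, pt_clsMod] at h
  obtain ⟨R, hR, hRu⟩ := hP.locallyInjective T _ _ ⟨M, rfl, hM⟩ ⟨M', rfl, hM'⟩ h
  obtain ⟨Y, g, hg, _, _, _⟩ := exists_sigma_of_mem hR
  refine eq_of_mul_inv_eq_one (eq_one_of_XTmap f σ hσ ha T (Sigma.desc g) ?_ ?_)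
  · refine eq_one_of_disjoint (fun t => PicF.XTmap f (inc T Y g t)) (cover_inc f T Y g) (disjoint_inc f T Y g) fun t => ?_
    have e : pull (PicF.XTmap f (AbDual.ovrHom T (g t))) (clsMod hM) =
        pull (PicF.XTmap f (AbDual.ovrHom T (g t))) (clsMod hM') := by
      rw [← clsMod_pullback _ hM, ← clsMod_pullback _ hM']
      exact (clsMod_eq_iff _ _).2 (PicSep26.cl_eq_iff.1 (hRu (g t) (hg t)))
    rw [pull_comp, XTmap_comp, inc_ovrHom, map_mul, map_inv, e, mul_inv_cancel]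
  · rw [map_mul, map_inv, hn, hn', inv_one, one_mul]

include hP in
theorem pt_mul_pull (T : Over S) (n : Pic (PicF.XT f T)) (N : Pic T.left) :
    pt f φ T (n * pull (PicF.XTproj f T) N) = pt f φ T n := by
  choose U hU hN using exists_pull_eq_one N
  let 𝒰 := T.left.openCoverOfIsOpenCover U
    (eq_top_iff.2 fun x _ => Opens.mem_iSup.2 ⟨x, hU x⟩)
  refine Over.OverMorphism.ext (𝒰.hom_ext _ _ fun x => ?_)
  have e : pull (PicF.XTmap f (AbDual.ovrHom T (U x).ι)) (n * pull (PicF.XTproj f T) N) =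
      pull (PicF.XTmap f (AbDual.ovrHom T (U x).ι)) n := by
    rw [map_mul, pull_comp _ (PicF.XTproj f T), XTmap_proj, ← pull_comp]
    erw [hN x]
    rw [map_one, mul_one]
  have h := congrArg (pt f φ _) e
  rw [pt_pull f hP, pt_pull f hP] at h
  exact congrArg CommaMorphism.left h

include hP ha in
theorem exists_rigidified_pt (T : Over S) (p : T ⟶ P) :
    ∃ n : Pic (PicF.XT f T), pull (PicF.secT f σ hσ T) n = 1 ∧ pt f φ T n = p := by
  obtain ⟨R, hR, hRu⟩ := hP.locallySurjective T p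
  obtain ⟨Y, g, hg, _, _, _⟩ := exists_sigma_of_mem hR
  choose c hc hcp using fun t => hRu (g t) (hg t)
  choose L hLc hL using hc
  obtain ⟨x₀, hx₀⟩ := exists_of_disjoint (fun t => PicF.XTmap f (inc T Y g t)) (cover_inc f T Y g) (disjoint_inc f T Y g)
    (fun t => clsMod (hL t))
  have h0 : pt f φ _ x₀ = AbDual.ovrHom T (Sigma.desc g) ≫ p := by
    refine Over.OverMorphism.ext (Sigma.hom_ext _ _ fun t => ?_)
    have h := congrArg (pt f φ _) (hx₀ t)
    rw [pt_pull f hP, pt_clsMod, hLc, hcp, ← inc_ovrHom T Y g t, Category.assoc] at h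
    exact congrArg CommaMorphism.left h
  let x := x₀ * pull (PicF.XTproj f _) (pull (PicF.secT f σ hσ (AbDual.ovr T (Sigma.desc g))) x₀)⁻¹
  have hxp : pt f φ _ x = AbDual.ovrHom T (Sigma.desc g) ≫ p := (pt_mul_pull f hP _ _ _).trans h0
  have hx : pull (PicF.secT f σ hσ _) x = 1 := by
    rw [map_mul, pull_comp _ (PicF.XTproj f _), secT_proj, pull_id, mul_inv_cancel]
  obtain ⟨n, hn₁, hn₂⟩ := exists_of_XTmap f σ hσ ha T (Sigma.desc g) x hx (eq_of_pt f hP σ hσ ha _
    (secT_pull f σ hσ _ x hx) (secT_pull f σ hσ _ x hx) (by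
      rw [pt_pull f hP, pt_pull f hP, hxp, ← Category.assoc, ← Category.assoc]
      congr 1
      exact Over.OverMorphism.ext pullback.condition))
  refine ⟨n, hn₁, ?_⟩
  have h := congrArg (pt f φ _) hn₂
  rw [pt_pull f hP, hxp] at h
  haveI := Flat.epi_of_flat_of_surjective (Sigma.desc g)
  exact Over.OverMorphism.ext ((cancel_epi (Sigma.desc g)).1 (congrArg CommaMorphism.left h))

include hP ha in
theorem bijective_rig (T : Over S) : Function.Bijective (fun c : PicF.Rig f σ hσ T => φ T c.1) := by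
  have hrig : ∀ {M : (PicF.XT f T).Modules} (hM : PicF.IsInvertible M),
      PicF.IsTrivialCl (PicF.pullCl (PicF.secT f σ hσ T) (PicF.cl M)) ↔ pull (PicF.secT f σ hσ T) (clsMod hM) = 1 := by
    intro M hM
    rw [← clsMod_pullback _ hM, clsMod_eq_one_iff]
    exact PicSep26.cl_eq_iff
  constructor
  · rintro ⟨c, ⟨M, rfl, hM⟩, hc⟩ ⟨c', ⟨M', rfl, hM'⟩, hc'⟩ h
    exact Subtype.ext (PicSep26.cl_eq_iff.2 ((clsMod_eq_iff hM hM').1 (eq_of_pt f hP σ hσ ha T ((hrig hM).1 hc)
      ((hrig hM').1 hc') ((pt_clsMod f φ T hM).trans (h.trans (pt_clsMod f φ T hM').symm)))))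
  · intro p
    obtain ⟨n, hn, rfl⟩ := exists_rigidified_pt f hP σ hσ ha T p
    obtain ⟨M, hM, rfl⟩ := exists_module n
    exact ⟨⟨PicF.cl M, ⟨M, rfl, hM⟩, (hrig hM).2 hn⟩, (pt_clsMod f φ T hM).symm⟩

end GrothLib.RigDesc26
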