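import Groth.Agent.Lib.Poincare.PicDescent

/-!
# Transition units of a rigidified invariant class
-/

set_option autoImplicit false
set_option linter.all false
set_option backward.isDefEq.respectTransparency false
set_option maxHeartbeats 1000000
set_option synthInstance.maxHeartbeats 200000

universe u

open CategoryTheory CategoryTheory.Limits AlgebraicGeometry Opposite TopologicalSpace
open GrothLib.Ample GrothLib.Cube
open GrothLib.PicDescent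

noncomputable section

namespace GrothLib.RigDesc26

/-- Pullback of a relation between restrictions. -/
theorem appLE_rel {Y Z : Scheme.{u}} (γ : Z ⟶ Y) {A B V : Y.Opens} {W : Z.Opens} (x : Γ(Y, A)) (y : Γ(Y, B))
    (G : Γ(Y, V)) (hA : V ≤ A) (hB : V ≤ B) (h : res hA x = G * res hB y) (e : W ≤ γ ⁻¹ᵁ V) (eA : W ≤ γ ⁻¹ᵁ A)
    (eB : W ≤ γ ⁻¹ᵁ B) : γ.appLE A W eA x = γ.appLE V W e G * γ.appLE B W eB y := by
  have A' := congrArg (γ.appLE V W e) h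
  rw [map_mul, appLE_res', appLE_res'] at A'
  exact A'

theorem appLE_comap_G {Y' Y Z : Scheme.{u}} (γ : Z ⟶ Y) (q : Y ⟶ Y') {r : Z ⟶ Y'} (hr : γ ≫ q = r) (c : Cocycle Y')
    (i k : c.ι) {V : Y.Opens} {W : Z.Opens} (hi : V ≤ q ⁻¹ᵁ c.D i) (hk : V ≤ q ⁻¹ᵁ c.D k) (e : W ≤ γ ⁻¹ᵁ V)
    (hi' : W ≤ r ⁻¹ᵁ c.D i) (hk' : W ≤ r ⁻¹ᵁ c.D k) :
    γ.appLE V W e ((c.comap q).G i k hi hk) = (c.comap r).G i k hi' hk' := by
  subst hr
  rw [comap_G', comap_G', appLE_appLE]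

variable {X S U : Scheme.{u}} {f : X ⟶ S} {u : U ⟶ S} (c : Cocycle (pullback f u))

/-- The pieces of the square. -/
def sq (i k : c.ι) : (pullback f (pullback.fst u u ≫ u)).Opens := q₁ f u ⁻¹ᵁ c.D i ⊓ q₂ f u ⁻¹ᵁ c.D k

variable {c}

theorem le_sq {Z : Scheme.{u}} {a b : Z ⟶ pullback f u} (h : a ≫ pullback.fst f u = b ≫ pullback.fst f u)
    {i k : c.ι} {W : Z.Opens} (ea : W ≤ a ⁻¹ᵁ c.D i) (eb : W ≤ b ⁻¹ᵁ c.D k) :
    W ≤ PicDescent.pair a b h ⁻¹ᵁ sq c i k :=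
  le_pre_inf (le_pre (pair_q₁ a b h) ea) (le_pre (pair_q₂ a b h) eb)

/-- The value of a family of units on the square at a pair of points. -/
def tr (w : ∀ i k, Γ(pullback f (pullback.fst u u ≫ u), sq c i k)) {Z : Scheme.{u}} (a b : Z ⟶ pullback f u)
    (h : a ≫ pullback.fst f u = b ≫ pullback.fst f u) (i k : c.ι) (W : Z.Opens) (ea : W ≤ a ⁻¹ᵁ c.D i)
    (eb : W ≤ b ⁻¹ᵁ c.D k) : Γ(Z, W) :=
  (PicDescent.pair a b h).appLE (sq c i k) W (le_sq h ea eb) (w i k)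

theorem tr_comp {w : ∀ i k, Γ(pullback f (pullback.fst u u ≫ u), sq c i k)} {Z Z' : Scheme.{u}} (j : Z' ⟶ Z)
    {a b : Z ⟶ pullback f u} (h : a ≫ pullback.fst f u = b ≫ pullback.fst f u) {a' b' : Z' ⟶ pullback f u}
    (h' : a' ≫ pullback.fst f u = b' ≫ pullback.fst f u) (hja : j ≫ a = a') (hjb : j ≫ b = b')
    (i k : c.ι) (W : Z.Opens) (ea : W ≤ a ⁻¹ᵁ c.D i) (eb : W ≤ b ⁻¹ᵁ c.D k) (W' : Z'.Opens) (e : W' ≤ j ⁻¹ᵁ W)
    (ea' : W' ≤ a' ⁻¹ᵁ c.D i) (eb' : W' ≤ b' ⁻¹ᵁ c.D k) :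
    j.appLE W W' e (tr w a b h i k W ea eb) = tr w a' b' h' i k W' ea' eb' := by
  subst hja hjb
  exact (appLE_appLE _ _ _ _ _).trans (appLE_congr (pair_comp j a b h) _ _ _)

/-- The transition units of an invertible module with rigidified descent datum. -/
structure Trans (c : Cocycle (pullback f u)) where
  w : ∀ i k, Γ(pullback f (pullback.fst u u ≫ u), sq c i k)
  unit : ∀ i k, IsUnit (w i k)
  change : ∀ {Z : Scheme.{u}} (a b : Z ⟶ pullback f u) (h : a ≫ pullback.fst f u = b ≫ pullback.fst f u)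
    (i i' k k' : c.ι) (W : Z.Opens) (ea : W ≤ a ⁻¹ᵁ c.D i) (ea' : W ≤ a ⁻¹ᵁ c.D i') (eb : W ≤ b ⁻¹ᵁ c.D k)
    (eb' : W ≤ b ⁻¹ᵁ c.D k'),
    tr w a b h i k W ea eb = (c.comap a).G i i' ea ea' * tr w a b h i' k' W ea' eb' * (c.comap b).G k' k eb' eb
  cocycle : ∀ {Z : Scheme.{u}} (a b d : Z ⟶ pullback f u) (hab : a ≫ pullback.fst f u = b ≫ pullback.fst f u)
    (hbd : b ≫ pullback.fst f u = d ≫ pullback.fst f u) (i k l : c.ι) (W : Z.Opens) (ea : W ≤ a ⁻¹ᵁ c.D i)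
    (eb : W ≤ b ⁻¹ᵁ c.D k) (ed : W ≤ d ⁻¹ᵁ c.D l),
    tr w a d (hab.trans hbd) i l W ea ed = tr w a b hab i k W ea eb * tr w b d hbd k l W eb ed

variable (T : Trans c)

theorem Trans.isUnit_tr {Z : Scheme.{u}} (a b : Z ⟶ pullback f u) (h : a ≫ pullback.fst f u = b ≫ pullback.fst f u)
    (i k : c.ι) (W : Z.Opens) (ea : W ≤ a ⁻¹ᵁ c.D i) (eb : W ≤ b ⁻¹ᵁ c.D k) : IsUnit (tr T.w a b h i k W ea eb) :=
  (T.unit i k).map _

/-- On the diagonal the transition units are the transition functions. -/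
theorem Trans.diag {Z : Scheme.{u}} (a : Z ⟶ pullback f u) (i k : c.ι) (W : Z.Opens) (ea : W ≤ a ⁻¹ᵁ c.D i)
    (eb : W ≤ a ⁻¹ᵁ c.D k) : tr T.w a a rfl i k W ea eb = (c.comap a).G i k ea eb := by
  have h1 : tr T.w a a rfl i i W ea ea = 1 := by
    have h := T.cocycle a a a rfl rfl i i i W ea ea ea
    exact ((T.isUnit_tr a a rfl i i W ea ea).mul_eq_left.1 h.symm)
  rw [T.change a a rfl i i k i W ea ea eb ea, h1, mul_one, (c.comap a).G_self, one_mul]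

variable (f u) in
/-- A rigidified class with equal pullbacks to the square has transition units. -/
theorem exists_trans (m : S ⟶ X) (hm : m ≫ f = 𝟙 S)
    (hb : ∀ {T : Scheme.{u}} (g : T ⟶ S), Function.Bijective (pullback.snd f g).appTop)
    (c : Cocycle (pullback f u)) (hx : pull (sec f m hm u) (cls c) = 1)
    (heq : pull (q₁ f u) (cls c) = pull (q₂ f u) (cls c)) : Nonempty (Trans c) := by
  classical
  obtain ⟨a, ha⟩ := cls_eq_one_iff.1 (show cls ((c.comap (q₁ f u)).prod (Cube.inv (c.comap (q₂ f u)))) = 1 by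
    rw [cls_prod]
    show pull (q₁ f u) (cls c) * (pull (q₂ f u) (cls c))⁻¹ = 1
    rw [heq, mul_inv_cancel])
  let w₀ : ∀ i k, Γ(pullback f (pullback.fst u u ≫ u), sq c i k) := fun i k => res (le_inf le_top le_rfl) (a.1 (i, k))
  have hw₀u : ∀ i k, IsUnit (w₀ i k) := fun i k =>
    isUnit_component (c := (c.comap (q₁ f u)).prod (Cube.inv (c.comap (q₂ f u)))) ha (i, k) le_rfl
  have hw₀ : ∀ (i i' k k' : c.ι) (W : (pullback f (pullback.fst u u ≫ u)).Opens) (h : W ≤ sq c i k)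
      (h' : W ≤ sq c i' k'),
      res h (w₀ i k) = (c.comap (q₁ f u)).G i i' (h.trans inf_le_left) (h'.trans inf_le_left) *
        (c.comap (q₂ f u)).G k' k (h'.trans inf_le_right) (h.trans inf_le_right) * res h' (w₀ i' k') := by
    intro i i' k k' W h h'
    have e := ((c.comap (q₁ f u)).prod (Cube.inv (c.comap (q₂ f u)))).sect_spec a (i, k) (i', k') (W := W)
      (le_inf le_top h) (le_inf le_top h')
    rw [pow_one, Cocycle.prod_G, Cube.inv_G] at e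
    simp only [w₀, res_res]
    exact e
  let σ : U ⟶ pullback f u := sec f m hm u
  obtain ⟨a', ha'⟩ := cls_eq_one_iff.1 ((pull_cls σ c).symm.trans hx)
  let ρ : ∀ i, Γ(U, σ ⁻¹ᵁ c.D i) := fun i => res (le_inf le_top le_rfl) (a'.1 i)
  have hρu : ∀ i, IsUnit (ρ i) := fun i => isUnit_component (c := c.comap σ) ha' i le_rfl
  have hρ : ∀ (i k : c.ι) {Z : Scheme.{u}} (P : Z ⟶ U) (W : Z.Opens) (hi : W ≤ P ⁻¹ᵁ (σ ⁻¹ᵁ c.D i))
      (hk : W ≤ P ⁻¹ᵁ (σ ⁻¹ᵁ c.D k)),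
      P.appLE _ W hi (ρ i) = (c.comap (P ≫ σ)).G i k hi hk * P.appLE _ W hk (ρ k) := by
    intro i k Z P W hi hk
    have h : res (inf_le_left : σ ⁻¹ᵁ c.D i ⊓ σ ⁻¹ᵁ c.D k ≤ _) (ρ i) =
        (c.comap σ).G i k inf_le_left inf_le_right * res inf_le_right (ρ k) := by
      have e := (c.comap σ).sect_spec a' i k (W := σ ⁻¹ᵁ c.D i ⊓ σ ⁻¹ᵁ c.D k)
        (le_inf le_top inf_le_left) (le_inf le_top inf_le_right)
      rw [pow_one] at e
      simp only [ρ, res_res]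
      exact e
    refine (appLE_rel P (ρ i) (ρ k) _ _ _ h (le_pre_inf hi hk) hi hk).trans (congrArg (· * _) ?_)
    exact appLE_comap_G P σ rfl c i k _ _ _ _ _
  let σ₂ : pullback u u ⟶ pullback f (pullback.fst u u ≫ u) := sec f m hm (pullback.fst u u ≫ u)
  have hσ₁ : σ₂ ≫ q₁ f u = pullback.fst u u ≫ σ := by
    refine pullback.hom_ext ?_ ?_ <;> simp [σ₂, σ, sec, q₁] <;> exact Category.id_comp _
  have hσ₂ : σ₂ ≫ q₂ f u = pullback.snd u u ≫ σ := by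
    refine pullback.hom_ext ?_ ?_ <;> simp [σ₂, σ, sec, q₂, pullback.condition] <;> exact Category.id_comp _
  let O₂ : c.ι × c.ι → (pullback u u).Opens := fun p => σ₂ ⁻¹ᵁ sq c p.1 p.2
  have hO₁ : ∀ p, O₂ p ≤ pullback.fst u u ⁻¹ᵁ (σ ⁻¹ᵁ c.D p.1) := fun p => by
    rw [← Scheme.Hom.comp_preimage, ← hσ₁, Scheme.Hom.comp_preimage]
    exact σ₂.preimage_mono inf_le_left
  have hO₂ : ∀ p, O₂ p ≤ pullback.snd u u ⁻¹ᵁ (σ ⁻¹ᵁ c.D p.2) := fun p => by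
    rw [← Scheme.Hom.comp_preimage, ← hσ₂, Scheme.Hom.comp_preimage]
    exact σ₂.preimage_mono inf_le_right
  let den : ∀ p, Γ(pullback u u, O₂ p) := fun p =>
    (pullback.snd u u).appLE _ _ (hO₂ p) (ρ p.2) * σ₂.appLE (sq c p.1 p.2) (O₂ p) le_rfl (w₀ p.1 p.2)
  have hdenu : ∀ p, IsUnit (den p) := fun p => ((hρu p.2).map _).mul ((hw₀u p.1 p.2).map _)
  choose iden hiden using fun p => (hdenu p).exists_right_inv
  let ξ : ∀ p, Γ(pullback u u, O₂ p) := fun p => (pullback.fst u u).appLE _ _ (hO₁ p) (ρ p.1) * iden p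
  have hξu : ∀ p, IsUnit (ξ p) := fun p =>
    ((hρu p.1).map _).mul (IsUnit.of_mul_eq_one _ ((mul_comm _ _).trans (hiden p)))
  have hcov₂ : (⊤ : (pullback u u).Opens) ≤ ⨆ p, O₂ p := fun z _ => by
    obtain ⟨i, hi⟩ := c.exists_mem (q₁ f u (σ₂ z))
    obtain ⟨k, hk⟩ := c.exists_mem (q₂ f u (σ₂ z))
    exact Opens.mem_iSup.mpr ⟨(i, k), hi, hk⟩
  obtain ⟨γ, hγ⟩ := exists_glue O₂ (O := ⊤) (fun _ => le_top) hcov₂ ξ (fun p q => by
    let O := O₂ p ⊓ O₂ q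
    have hi : O ≤ O₂ p := inf_le_left
    have hk : O ≤ O₂ q := inf_le_right
    have e₁₂ : O ≤ σ₂ ⁻¹ᵁ (sq c p.1 p.2 ⊓ sq c q.1 q.2) := le_pre_inf hi hk
    have e1 := hρ p.1 q.1 (pullback.fst u u) O (hi.trans (hO₁ p)) (hk.trans (hO₁ q))
    have e2 := hρ p.2 q.2 (pullback.snd u u) O (hi.trans (hO₂ p)) (hk.trans (hO₂ q))
    have e3 := congrArg (σ₂.appLE (sq c p.1 p.2 ⊓ sq c q.1 q.2) O e₁₂)
      (hw₀ p.1 q.1 p.2 q.2 _ inf_le_left inf_le_right)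
    simp only [map_mul, appLE_res', comap_G', appLE_appLE] at e3 e1 e2
    rw [appLE_congr hσ₁ _ (show O ≤ (pullback.fst u u ≫ σ) ⁻¹ᵁ (c.D p.1 ⊓ c.D q.1) from
      le_pre_inf (hi.trans (hO₁ p)) (hk.trans (hO₁ q))),
      appLE_congr hσ₂ _ (show O ≤ (pullback.snd u u ≫ σ) ⁻¹ᵁ (c.D q.2 ⊓ c.D p.2) from
        le_pre_inf (hk.trans (hO₂ q)) (hi.trans (hO₂ p)))] at e3
    have fi := congrArg (res hi) (hiden p)
    have fk := congrArg (res hk) (hiden q)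
    simp only [den, map_mul, map_one, res_appLE'] at fi fk
    have gg := congrArg ((pullback.snd u u ≫ σ).appLE (c.D p.2 ⊓ c.D q.2) O
      (le_pre_inf (hi.trans (hO₂ p)) (hk.trans (hO₂ q))))
      (c.G_mul_G p.2 q.2 (W := c.D p.2 ⊓ c.D q.2) inf_le_left inf_le_right)
    simp only [map_mul, map_one, appLE_G', comap_G'] at gg
    simp only [ξ, map_mul, res_appLE']
    rw [e1]
    rw [e2, e3] at fi
    set a1 := (pullback.fst u u ≫ σ).appLE (c.D p.1 ⊓ c.D q.1) O _ (c.g p.1 q.1)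
    set a2 := (pullback.snd u u ≫ σ).appLE (c.D p.2 ⊓ c.D q.2) O _ (c.g p.2 q.2)
    set a2' := (pullback.snd u u ≫ σ).appLE (c.D q.2 ⊓ c.D p.2) O _ (c.g q.2 p.2)
    set P1 := (pullback.fst u u).appLE (σ ⁻¹ᵁ c.D q.1) O _ (ρ q.1)
    set P2 := (pullback.snd u u).appLE (σ ⁻¹ᵁ c.D q.2) O _ (ρ q.2)
    set Wk := σ₂.appLE (sq c q.1 q.2) O _ (w₀ q.1 q.2)
    set Ii := res hi (iden p)
    set Ik := res hk (iden q)
    linear_combination (-(a1 * P1 * Ii)) * fk + (P1 * Ik) * fi +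
      (-(a1 * P1 * P2 * Wk * Ii * Ik)) * gg)
  have hγu : IsUnit γ := isUnit_of_cover O₂ hcov₂ γ fun p => (hγ p).symm ▸ hξu p
  let w : ∀ i k, Γ(pullback f (pullback.fst u u ≫ u), sq c i k) := fun i k =>
    w₀ i k * (pullback.snd f (pullback.fst u u ≫ u)).appLE ⊤ (sq c i k) le_top γ
  have hwu : ∀ i k, IsUnit (w i k) := fun i k => (hw₀u i k).mul (hγu.map _)
  have hw : ∀ (i i' k k' : c.ι),
      res (inf_le_left : sq c i k ⊓ sq c i' k' ≤ _) (w i k) =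
        (c.comap (q₁ f u)).G i i' (inf_le_left.trans inf_le_left) (inf_le_right.trans inf_le_left) *
          (c.comap (q₂ f u)).G k' k (inf_le_right.trans inf_le_right) (inf_le_left.trans inf_le_right) *
          res inf_le_right (w i' k') := by
    intro i i' k k'
    simp only [w, map_mul, res_appLE']
    rw [hw₀ i i' k k' _ inf_le_left inf_le_right]
    first
    | ring1
    | (rw [mul_assoc]; rfl)
    | rfl
  have hchange : ∀ {Z : Scheme.{u}} (a b : Z ⟶ pullback f u) (h : a ≫ pullback.fst f u = b ≫ pullback.fst f u)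
      (i i' k k' : c.ι) (W : Z.Opens) (ea : W ≤ a ⁻¹ᵁ c.D i) (ea' : W ≤ a ⁻¹ᵁ c.D i') (eb : W ≤ b ⁻¹ᵁ c.D k)
      (eb' : W ≤ b ⁻¹ᵁ c.D k'),
      tr w a b h i k W ea eb = (c.comap a).G i i' ea ea' * tr w a b h i' k' W ea' eb' * (c.comap b).G k' k eb' eb := by
    intro Z a b h i i' k k' W ea ea' eb eb'
    refine (appLE_rel (PicDescent.pair a b h) (w i k) (w i' k') _ _ _ (hw i i' k k')
      (le_pre_inf (le_sq h ea eb) (le_sq h ea' eb')) (le_sq h ea eb) (le_sq h ea' eb')).trans ?_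
    rw [mul_right_comm _ (tr w a b h i' k' W ea' eb')]
    refine congrArg₂ (· * ·) ?_ rfl
    rw [map_mul]
    exact congrArg₂ (· * ·) (appLE_comap_G _ _ (pair_q₁ a b h) c i i' _ _ _ _ _)
      (appLE_comap_G _ _ (pair_q₂ a b h) c k' k _ _ _ _ _)
  refine ⟨⟨w, hwu, hchange, ?_⟩⟩
  -- the section
  have hwσ : ∀ i k, (pullback.fst u u).appLE _ _ (hO₁ (i, k)) (ρ i) =
      (pullback.snd u u).appLE _ _ (hO₂ (i, k)) (ρ k) * σ₂.appLE (sq c i k) (O₂ (i, k)) le_rfl (w i k) := fun i k => by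
    have h1 : σ₂ ≫ pullback.snd f (pullback.fst u u ≫ u) = 𝟙 (pullback u u) := pullback.lift_snd _ _ _
    have h2 : σ₂.appLE (sq c i k) (O₂ (i, k)) le_rfl
        ((pullback.snd f (pullback.fst u u ≫ u)).appLE ⊤ (sq c i k) le_top γ) = ξ (i, k) := by
      rw [appLE_appLE, appLE_congr h1 _ (le_top : O₂ (i, k) ≤ (𝟙 (pullback u u)) ⁻¹ᵁ ⊤), ← hγ (i, k)]
      simp [Scheme.Hom.appLE, res]
    have h3 := hiden (i, k)
    simp only [w, map_mul, h2, ξ, den] at h3 ⊢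
    linear_combination (-((pullback.fst u u).appLE _ _ (hO₁ (i, k)) (ρ i))) * h3
  intro Z a b d hab hbd i k l W ea eb ed
  -- the base of the cube
  let w₃ : pullback (pullback.snd u u ≫ u) u ⟶ S := pullback.fst _ _ ≫ pullback.fst u u ≫ u
  let b₁ : pullback (pullback.snd u u ≫ u) u ⟶ U := pullback.fst _ _ ≫ pullback.fst u u
  let b₂ : pullback (pullback.snd u u ≫ u) u ⟶ U := pullback.fst _ _ ≫ pullback.snd u u
  let b₃ : pullback (pullback.snd u u ≫ u) u ⟶ U := pullback.snd _ _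
  have hb₁ : b₁ ≫ u = w₃ := Category.assoc _ _ _
  have hb₂ : b₂ ≫ u = w₃ := by simp [b₂, w₃, pullback.condition (f := u) (g := u)]
  have hb₃ : b₃ ≫ u = w₃ := by
    refine Eq.trans ?_ hb₂
    exact pullback.condition.symm.trans (Category.assoc _ _ _).symm
  let Q : ∀ (b : pullback (pullback.snd u u ≫ u) u ⟶ U) (hb : b ≫ u = w₃), pullback f w₃ ⟶ pullback f u := fun b hb =>
    pullback.lift (pullback.fst f w₃) (pullback.snd f w₃ ≫ b) (by rw [Category.assoc, hb, pullback.condition])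
  have hQ : ∀ b hb, Q b hb ≫ pullback.fst f u = pullback.fst f w₃ := fun b hb => pullback.lift_fst _ _ _
  have hQQ : ∀ b hb b' hb', Q b hb ≫ pullback.fst f u = Q b' hb' ≫ pullback.fst f u := fun b hb b' hb' =>
    (hQ b hb).trans (hQ b' hb').symm
  let σ₃ : pullback (pullback.snd u u ≫ u) u ⟶ pullback f w₃ := sec f m hm w₃
  have hσQ : ∀ b hb, σ₃ ≫ Q b hb = b ≫ σ := fun b hb => by
    refine pullback.hom_ext ?_ ?_
    · simp [σ₃, σ, sec, Q]; exact (congrArg (· ≫ m) hb).symm.trans (Category.assoc _ _ _)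
    · simp [σ₃, σ, sec, Q]; exact Category.id_comp _
  let O₃ : c.ι × c.ι × c.ι → (pullback f w₃).Opens := fun p =>
    Q b₁ hb₁ ⁻¹ᵁ c.D p.1 ⊓ Q b₂ hb₂ ⁻¹ᵁ c.D p.2.1 ⊓ Q b₃ hb₃ ⁻¹ᵁ c.D p.2.2
  have h₁ : ∀ p, O₃ p ≤ Q b₁ hb₁ ⁻¹ᵁ c.D p.1 := fun p => inf_le_left.trans inf_le_left
  have h₂ : ∀ p, O₃ p ≤ Q b₂ hb₂ ⁻¹ᵁ c.D p.2.1 := fun p => inf_le_left.trans inf_le_right
  have h₃ : ∀ p, O₃ p ≤ Q b₃ hb₃ ⁻¹ᵁ c.D p.2.2 := fun p => inf_le_right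
  let t₁₂ : ∀ p, Γ(pullback f w₃, O₃ p) := fun p =>
    tr w (Q b₁ hb₁) (Q b₂ hb₂) (hQQ b₁ hb₁ b₂ hb₂) p.1 p.2.1 (O₃ p) (h₁ p) (h₂ p)
  let t₂₃ : ∀ p, Γ(pullback f w₃, O₃ p) := fun p =>
    tr w (Q b₂ hb₂) (Q b₃ hb₃) (hQQ b₂ hb₂ b₃ hb₃) p.2.1 p.2.2 (O₃ p) (h₂ p) (h₃ p)
  let t₁₃ : ∀ p, Γ(pullback f w₃, O₃ p) := fun p =>
    tr w (Q b₁ hb₁) (Q b₃ hb₃) (hQQ b₁ hb₁ b₃ hb₃) p.1 p.2.2 (O₃ p) (h₁ p) (h₃ p)
  have hT : ∀ p, IsUnit (t₁₃ p) := fun p => (hwu _ _).map _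
  choose iT hiT using fun p => (hT p).exists_right_inv
  have hcov₃ : (⊤ : (pullback f w₃).Opens) ≤ ⨆ p, O₃ p := fun z _ => by
    obtain ⟨p₁, h1⟩ := c.exists_mem (Q b₁ hb₁ z)
    obtain ⟨p₂, h2⟩ := c.exists_mem (Q b₂ hb₂ z)
    obtain ⟨p₃, h3⟩ := c.exists_mem (Q b₃ hb₃ z)
    exact Opens.mem_iSup.mpr ⟨(p₁, p₂, p₃), ⟨h1, h2⟩, h3⟩
  let ζi : ∀ p, Γ(pullback f w₃, O₃ p) := fun p => t₁₂ p * t₂₃ p * iT p
  obtain ⟨ζ, hζ⟩ := exists_glue O₃ (O := ⊤) (fun _ => le_top) hcov₃ ζi (fun p q => by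
    let O := O₃ p ⊓ O₃ q
    have hp : O ≤ O₃ p := inf_le_left
    have hq : O ≤ O₃ q := inf_le_right
    have r12 := hchange (Q b₁ hb₁) (Q b₂ hb₂) (hQQ b₁ hb₁ b₂ hb₂) p.1 q.1 p.2.1 q.2.1 O
      (hp.trans (h₁ p)) (hq.trans (h₁ q)) (hp.trans (h₂ p)) (hq.trans (h₂ q))
    have r23 := hchange (Q b₂ hb₂) (Q b₃ hb₃) (hQQ b₂ hb₂ b₃ hb₃) p.2.1 q.2.1 p.2.2 q.2.2 O
      (hp.trans (h₂ p)) (hq.trans (h₂ q)) (hp.trans (h₃ p)) (hq.trans (h₃ q))
    have r13 := hchange (Q b₁ hb₁) (Q b₃ hb₃) (hQQ b₁ hb₁ b₃ hb₃) p.1 q.1 p.2.2 q.2.2 O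
      (hp.trans (h₁ p)) (hq.trans (h₁ q)) (hp.trans (h₃ p)) (hq.trans (h₃ q))
    have g2 := (c.comap (Q b₂ hb₂)).G_mul_G p.2.1 q.2.1 (W := O) (hp.trans (h₂ p)) (hq.trans (h₂ q))
    have fi := congrArg (res hp) (hiT p)
    have fk := congrArg (res hq) (hiT q)
    simp only [t₁₃, tr, map_mul, map_one, res_appLE'] at fi fk
    simp only [ζi, t₁₂, t₂₃, tr, map_mul, res_appLE']
    simp only [tr] at r12 r23 r13
    rw [r13] at fi
    rw [r12, r23]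
    set A1 := (c.comap (Q b₁ hb₁)).G p.1 q.1 _ _
    set A2 := (c.comap (Q b₂ hb₂)).G p.2.1 q.2.1 _ _
    set A2' := (c.comap (Q b₂ hb₂)).G q.2.1 p.2.1 _ _
    set A3' := (c.comap (Q b₃ hb₃)).G q.2.2 p.2.2 _ _
    set x12 := (PicDescent.pair (Q b₁ hb₁) (Q b₂ hb₂) _).appLE (sq c q.1 q.2.1) O _ (w q.1 q.2.1)
    set x23 := (PicDescent.pair (Q b₂ hb₂) (Q b₃ hb₃) _).appLE (sq c q.2.1 q.2.2) O _ (w q.2.1 q.2.2)
    set x13 := (PicDescent.pair (Q b₁ hb₁) (Q b₃ hb₃) _).appLE (sq c q.1 q.2.2) O _ (w q.1 q.2.2)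
    set Ip := res hp (iT p)
    set Iq := res hq (iT q)
    linear_combination (-(A1 * x12 * x23 * A3' * Ip)) * fk + (x12 * x23 * Iq) * fi +
      (A1 * x12 * x23 * A3' * Ip) * g2)
  obtain ⟨z, hz⟩ := (hb w₃).2 ζ
  have h1 : σ₃ ≫ pullback.snd f w₃ = 𝟙 _ := pullback.lift_snd _ _ _
  have hz1 : z = 1 := by
    refine eq_one_of_cover (fun p => σ₃ ⁻¹ᵁ O₃ p)
      (by rw [← Scheme.Hom.preimage_iSup, top_le_iff.1 hcov₃, Scheme.Hom.preimage_top]) z fun p => ?_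
    have e : res (le_top : σ₃ ⁻¹ᵁ O₃ p ≤ ⊤) z = σ₃.appLE (O₃ p) (σ₃ ⁻¹ᵁ O₃ p) le_rfl (ζi p) := by
      rw [← hζ p, ← hz, show (pullback.snd f w₃).appTop = (pullback.snd f w₃).appLE ⊤ (pullback.snd f w₃ ⁻¹ᵁ ⊤) le_rfl from
        Scheme.Hom.app_eq_appLE (f := pullback.snd f w₃) (U := ⊤)]
      erw [appLE_res', appLE_appLE, appLE_congr h1 _ (le_top : σ₃ ⁻¹ᵁ O₃ p ≤ (𝟙 (pullback (pullback.snd u u ≫ u) u)) ⁻¹ᵁ ⊤)]
      simp [Scheme.Hom.appLE, res]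
    rw [e]
    let O := σ₃ ⁻¹ᵁ O₃ p
    have eb : ∀ (b : pullback (pullback.snd u u ≫ u) u ⟶ U) (hb : b ≫ u = w₃) (i : c.ι), O₃ p ≤ Q b hb ⁻¹ᵁ c.D i →
        O ≤ b ⁻¹ᵁ (σ ⁻¹ᵁ c.D i) := fun b hb i hi => by
      rw [← Scheme.Hom.comp_preimage, ← hσQ b hb, Scheme.Hom.comp_preimage]
      exact σ₃.preimage_mono hi
    have hσt : ∀ (b b' : pullback (pullback.snd u u ≫ u) u ⟶ U) (hb : b ≫ u = w₃) (hb' : b' ≫ u = w₃) (i k : c.ι)
        (hi : O₃ p ≤ Q b hb ⁻¹ᵁ c.D i) (hk : O₃ p ≤ Q b' hb' ⁻¹ᵁ c.D k),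
        b.appLE _ O (eb b hb i hi) (ρ i) = b'.appLE _ O (eb b' hb' k hk) (ρ k) *
          σ₃.appLE (O₃ p) O le_rfl (tr w (Q b hb) (Q b' hb') (hQQ b hb b' hb') i k (O₃ p) hi hk) := by
      intro b b' hb hb' i k hi hk
      let l : pullback (pullback.snd u u ≫ u) u ⟶ pullback u u := pullback.lift b b' (hb.trans hb'.symm)
      have hl : l ≫ σ₂ = σ₃ ≫ PicDescent.pair (Q b hb) (Q b' hb') (hQQ b hb b' hb') := by
        refine pullback.hom_ext ?_ ?_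
        · rw [Category.assoc, Category.assoc, pair_fst, hQ b hb,
            show σ₂ ≫ pullback.fst f (pullback.fst u u ≫ u) = (pullback.fst u u ≫ u) ≫ m from pullback.lift_fst _ _ _,
            show σ₃ ≫ pullback.fst f w₃ = w₃ ≫ m from pullback.lift_fst _ _ _,
            ← Category.assoc l, ← Category.assoc l, show l ≫ pullback.fst u u = b from pullback.lift_fst _ _ _, hb]
        · rw [Category.assoc, show σ₂ ≫ pullback.snd f (pullback.fst u u ≫ u) = 𝟙 _ from pullback.lift_snd _ _ _,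
            Category.comp_id]
          refine pullback.hom_ext ?_ ?_ <;> simp [l, σ₃, sec, Q, PicDescent.pair] <;> exact (Category.id_comp _).symm
      have el' : O ≤ (σ₃ ≫ PicDescent.pair (Q b hb) (Q b' hb') (hQQ b hb b' hb')) ⁻¹ᵁ sq c i k :=
        σ₃.preimage_mono (le_sq (hQQ b hb b' hb') hi hk)
      have el : O ≤ l ⁻¹ᵁ O₂ (i, k) := by
        show O ≤ l ⁻¹ᵁ (σ₂ ⁻¹ᵁ _)
        rw [← Scheme.Hom.comp_preimage, hl]
        exact el'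
      have h := congrArg (l.appLE _ O el) (hwσ i k)
      rw [map_mul, appLE_appLE, appLE_appLE, appLE_appLE,
        appLE_congr (pullback.lift_fst b b' (hb.trans hb'.symm)) _ (eb b hb i hi),
        appLE_congr (pullback.lift_snd b b' (hb.trans hb'.symm)) _ (eb b' hb' k hk), appLE_congr hl _ el'] at h
      rw [tr, appLE_appLE]
      exact h
    have s12 := hσt b₁ b₂ hb₁ hb₂ p.1 p.2.1 (h₁ p) (h₂ p)
    have s23 := hσt b₂ b₃ hb₂ hb₃ p.2.1 p.2.2 (h₂ p) (h₃ p)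
    have s13 := hσt b₁ b₃ hb₁ hb₃ p.1 p.2.2 (h₁ p) (h₃ p)
    have fi := congrArg (σ₃.appLE (O₃ p) O le_rfl) (hiT p)
    simp only [map_mul, map_one, t₁₃] at fi
    simp only [ζi, t₁₂, t₂₃, map_mul]
    refine ((hρu p.2.2).map (b₃.appLE _ O (eb b₃ hb₃ _ (h₃ p))).hom).mul_left_cancel (?_ : _ * _ = _ * _)
    rw [s12, s23] at s13
    linear_combination (σ₃.appLE (O₃ p) O le_rfl (iT p)) * s13 + b₃.appLE _ O (eb b₃ hb₃ _ (h₃ p)) (ρ p.2.2) * fi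
  have hζ1 : ζ = 1 := by rw [← hz, hz1, map_one]
  have hs : ∀ c' : Z ⟶ pullback f u, c' ≫ pullback.snd f u ≫ u = (c' ≫ pullback.fst f u) ≫ f := fun c' => by
    rw [Category.assoc]; exact congrArg (c' ≫ ·) pullback.condition.symm
  let L : Z ⟶ pullback f w₃ := pullback.lift (a ≫ pullback.fst f u)
    (pullback.lift (pullback.lift (a ≫ pullback.snd f u) (b ≫ pullback.snd f u) (by
      rw [Category.assoc, Category.assoc, ← pullback.condition, ← Category.assoc, ← Category.assoc, hab]))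
      (d ≫ pullback.snd f u) (by
      rw [pullback.lift_snd_assoc, Category.assoc, Category.assoc, ← pullback.condition, ← Category.assoc,
        ← Category.assoc, hbd]))
    (by
      simp [w₃, pullback.condition]
      exact (hs a).trans ((congrArg (· ≫ f) (hab.trans hbd)).trans (hs d).symm))
  have l1 : L ≫ Q b₁ hb₁ = a := by refine pullback.hom_ext ?_ ?_ <;> simp [L, Q, b₁]
  have l2 : L ≫ Q b₂ hb₂ = b := by
    refine pullback.hom_ext ?_ ?_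
    · simp [L, Q]; exact hab
    · simp [L, Q, b₂]
  have l3 : L ≫ Q b₃ hb₃ = d := by
    refine pullback.hom_ext ?_ ?_
    · simp [L, Q]; exact hab.trans hbd
    · simp [L, Q, b₃]
  have eW : W ≤ L ⁻¹ᵁ O₃ (i, k, l) := le_pre_inf (le_pre_inf (le_pre l1 ea) (le_pre l2 eb)) (le_pre l3 ed)
  have k12 := tr_comp (w := w) L (hQQ b₁ hb₁ b₂ hb₂) hab l1 l2 i k (O₃ (i, k, l)) (h₁ _) (h₂ _) W eW ea eb
  have k23 := tr_comp (w := w) L (hQQ b₂ hb₂ b₃ hb₃) hbd l2 l3 k l (O₃ (i, k, l)) (h₂ _) (h₃ _) W eW eb ed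
  have k13 := tr_comp (w := w) L (hQQ b₁ hb₁ b₃ hb₃) (hab.trans hbd) l1 l3 i l (O₃ (i, k, l)) (h₁ _) (h₃ _) W eW ea ed
  have h0 : res (le_top : O₃ (i, k, l) ≤ ⊤) ζ = 1 := by rw [hζ1, map_one]
  rw [hζ (i, k, l)] at h0
  have h2 := congrArg (L.appLE (O₃ (i, k, l)) W eW) h0
  have h3 := congrArg (L.appLE (O₃ (i, k, l)) W eW) (hiT (i, k, l))
  simp only [ζi, t₁₂, t₂₃, t₁₃, map_mul, map_one] at h2 h3
  rw [k12, k23] at h2
  rw [k13] at h3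
  linear_combination (-tr w a d (hab.trans hbd) i l W ea ed) * h2 +
    tr w a b hab i k W ea eb * tr w b d hbd k l W eb ed * h3

end GrothLib.RigDesc26
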